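import Mathlib

set_option autoImplicit false

/-! Encodings of `7 × 7` matrices over the integers modulo 11 as natural numbers (base `1024`
digits in rows of `70` bits), with a multiplication that the kernel evaluates quickly. -/

namespace Cfsg.Agent.Lib.Helper3.J1

/-- Horner evaluation -/
def horner (β : ℕ) : List ℕ → ℕ
  | [] => 0
  | x :: xs => x + β * horner β xs

theorem horner_lt (β : ℕ) : ∀ L : List ℕ, (∀ x ∈ L, x < β) → horner β L < β ^ L.length
  | [], _ => by simp [horner]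
  | x :: xs, h => by
    have h1 := horner_lt β xs (fun y hy => h y (List.mem_cons_of_mem _ hy))
    have h2 : x < β := h x (by simp)
    show x + β * horner β xs < β ^ (xs.length + 1)
    rw [pow_succ']
    have : β * (horner β xs + 1) ≤ β * β ^ xs.length := Nat.mul_le_mul_left _ h1
    linarith [mul_add β (horner β xs) 1]

theorem horner_digit (β : ℕ) (hβ : 0 < β) : ∀ (L : List ℕ) (k : ℕ), (∀ x ∈ L, x < β) →
    horner β L / β ^ k % β = L.getD k 0
  | [], k, _ => by simp [horner]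
  | x :: xs, 0, h => by
    have h2 : x < β := h x (by simp)
    show (x + β * horner β xs) / β ^ 0 % β = x
    rw [pow_zero, Nat.div_one, Nat.add_mul_mod_self_left, Nat.mod_eq_of_lt h2]
  | x :: xs, k + 1, h => by
    have h2 : x < β := h x (by simp)
    show (x + β * horner β xs) / β ^ (k + 1) % β = xs.getD k 0
    rw [pow_succ', ← Nat.div_div_eq_div_mul, Nat.add_mul_div_left _ _ hβ, Nat.div_eq_of_lt h2,
      zero_add]
    exact horner_digit β hβ xs k (fun y hy => h y (List.mem_cons_of_mem _ hy))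

/-- Horner evaluation of seven digits -/
def h7 (β x0 x1 x2 x3 x4 x5 x6 : ℕ) : ℕ :=
  x0 + β * (x1 + β * (x2 + β * (x3 + β * (x4 + β * (x5 + β * x6)))))

theorem h7_eq (β x0 x1 x2 x3 x4 x5 x6 : ℕ) :
    h7 β x0 x1 x2 x3 x4 x5 x6 = horner β [x0, x1, x2, x3, x4, x5, x6] := by
  simp [h7, horner]

/-- the base of the rows -/
def B7 : ℕ := 1180591620717411303424

theorem B7_eq : B7 = 1024 ^ 7 := by norm_num [B7]

/-- the `k`-th digit -/
def dg (n k : ℕ) : ℕ := n / 1024 ^ k % 1024

/-- the `i`-th row -/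
def rw7 (n i : ℕ) : ℕ := n / B7 ^ i % B7

/-- the encoding of a row -/
def rowN (A : Matrix (Fin 7) (Fin 7) (ZMod 11)) (i : Fin 7) : ℕ :=
  h7 1024 (A i 0).val (A i 1).val (A i 2).val (A i 3).val (A i 4).val (A i 5).val (A i 6).val

/-- the encoding of a matrix -/
def encN (A : Matrix (Fin 7) (Fin 7) (ZMod 11)) : ℕ :=
  h7 B7 (rowN A 0) (rowN A 1) (rowN A 2) (rowN A 3) (rowN A 4) (rowN A 5) (rowN A 6)

theorem val_lt (a : ZMod 11) : a.val < 11 := ZMod.val_lt a

theorem h7_lt {β x0 x1 x2 x3 x4 x5 x6 : ℕ} (h0 : x0 < β) (h1 : x1 < β) (h2 : x2 < β) (h3 : x3 < β)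
    (h4 : x4 < β) (h5 : x5 < β) (h6 : x6 < β) : h7 β x0 x1 x2 x3 x4 x5 x6 < β ^ 7 := by
  rw [h7_eq]
  apply horner_lt β [x0, x1, x2, x3, x4, x5, x6]
  intro x hx
  simp only [List.mem_cons, List.not_mem_nil, or_false] at hx
  rcases hx with rfl | rfl | rfl | rfl | rfl | rfl | rfl <;> assumption

theorem h7_digit {β x0 x1 x2 x3 x4 x5 x6 : ℕ} (h0 : x0 < β) (h1 : x1 < β) (h2 : x2 < β)
    (h3 : x3 < β) (h4 : x4 < β) (h5 : x5 < β) (h6 : x6 < β) (k : ℕ) :
    h7 β x0 x1 x2 x3 x4 x5 x6 / β ^ k % β = [x0, x1, x2, x3, x4, x5, x6].getD k 0 := by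
  rw [h7_eq]
  apply horner_digit β (by omega) [x0, x1, x2, x3, x4, x5, x6]
  intro x hx
  simp only [List.mem_cons, List.not_mem_nil, or_false] at hx
  rcases hx with rfl | rfl | rfl | rfl | rfl | rfl | rfl <;> assumption

theorem rowN_lt (A : Matrix (Fin 7) (Fin 7) (ZMod 11)) (i : Fin 7) : rowN A i < B7 := by
  rw [B7_eq]
  apply h7_lt <;> exact lt_trans (val_lt _) (by norm_num)

theorem dg_rowN (A : Matrix (Fin 7) (Fin 7) (ZMod 11)) (i : Fin 7) (k : ℕ) :
    dg (rowN A i) k = [(A i 0).val, (A i 1).val, (A i 2).val, (A i 3).val, (A i 4).val,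
      (A i 5).val, (A i 6).val].getD k 0 := by
  unfold dg rowN
  apply h7_digit <;> exact lt_trans (val_lt _) (by norm_num)

theorem rw7_encN (A : Matrix (Fin 7) (Fin 7) (ZMod 11)) (k : ℕ) :
    rw7 (encN A) k = [rowN A 0, rowN A 1, rowN A 2, rowN A 3, rowN A 4, rowN A 5,
      rowN A 6].getD k 0 := by
  unfold rw7 encN
  apply h7_digit <;> exact rowN_lt _ _

/-- the unreduced product of a row with a matrix given by its rows -/
def lin (a b0 b1 b2 b3 b4 b5 b6 : ℕ) : ℕ :=
  dg a 0 * b0 + dg a 1 * b1 + dg a 2 * b2 + dg a 3 * b3 + dg a 4 * b4 + dg a 5 * b5 + dg a 6 * b6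

/-- reduction of the digits modulo 11 -/
def red (r : ℕ) : ℕ :=
  h7 1024 (dg r 0 % 11) (dg r 1 % 11) (dg r 2 % 11) (dg r 3 % 11) (dg r 4 % 11) (dg r 5 % 11)
    (dg r 6 % 11)

/-- the product of a row with a matrix -/
def mulRowN (a b : ℕ) : ℕ :=
  red (lin a (rw7 b 0) (rw7 b 1) (rw7 b 2) (rw7 b 3) (rw7 b 4) (rw7 b 5) (rw7 b 6))

/-- the product of encodings -/
def mulN (a b : ℕ) : ℕ :=
  h7 B7 (mulRowN (rw7 a 0) b) (mulRowN (rw7 a 1) b) (mulRowN (rw7 a 2) b) (mulRowN (rw7 a 3) b)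
    (mulRowN (rw7 a 4) b) (mulRowN (rw7 a 5) b) (mulRowN (rw7 a 6) b)

/-- the entries of the unreduced product -/
def cf (A B : Matrix (Fin 7) (Fin 7) (ZMod 11)) (i j : Fin 7) : ℕ :=
  (A i 0).val * (B 0 j).val + (A i 1).val * (B 1 j).val + (A i 2).val * (B 2 j).val +
    (A i 3).val * (B 3 j).val + (A i 4).val * (B 4 j).val + (A i 5).val * (B 5 j).val +
    (A i 6).val * (B 6 j).val

theorem cf_lt (A B : Matrix (Fin 7) (Fin 7) (ZMod 11)) (i j : Fin 7) : cf A B i j < 1024 := by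
  unfold cf
  have h : ∀ a b : ZMod 11, a.val * b.val ≤ 100 := by
    intro a b
    have := val_lt a
    have := val_lt b
    nlinarith
  linarith [h (A i 0) (B 0 j), h (A i 1) (B 1 j), h (A i 2) (B 2 j), h (A i 3) (B 3 j),
    h (A i 4) (B 4 j), h (A i 5) (B 5 j), h (A i 6) (B 6 j)]

theorem val_mul_apply' (A B : Matrix (Fin 7) (Fin 7) (ZMod 11)) (i j : Fin 7) :
    ((A * B) i j).val = cf A B i j % 11 := by
  rw [Matrix.mul_apply, ← ZMod.val_natCast]
  congr 1
  unfold cf
  rw [Fin.sum_univ_seven]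
  push_cast
  simp only [ZMod.natCast_zmod_val]

theorem lin_rowN (A B : Matrix (Fin 7) (Fin 7) (ZMod 11)) (i : Fin 7) :
    lin (rowN A i) (rowN B 0) (rowN B 1) (rowN B 2) (rowN B 3) (rowN B 4) (rowN B 5) (rowN B 6) =
      h7 1024 (cf A B i 0) (cf A B i 1) (cf A B i 2) (cf A B i 3) (cf A B i 4) (cf A B i 5)
        (cf A B i 6) := by
  unfold lin
  simp only [dg_rowN, List.getD_cons_zero, List.getD_cons_succ]
  unfold rowN cf h7
  ring

theorem mulRowN_spec (A B : Matrix (Fin 7) (Fin 7) (ZMod 11)) (i : Fin 7) :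
    mulRowN (rowN A i) (encN B) = rowN (A * B) i := by
  unfold mulRowN
  simp only [rw7_encN, List.getD_cons_zero, List.getD_cons_succ]
  rw [lin_rowN]
  unfold red dg
  have hd : ∀ k, h7 1024 (cf A B i 0) (cf A B i 1) (cf A B i 2) (cf A B i 3) (cf A B i 4)
      (cf A B i 5) (cf A B i 6) / 1024 ^ k % 1024 =
      [cf A B i 0, cf A B i 1, cf A B i 2, cf A B i 3, cf A B i 4, cf A B i 5, cf A B i 6].getD k 0 :=
    fun k => h7_digit (cf_lt A B i 0) (cf_lt A B i 1) (cf_lt A B i 2) (cf_lt A B i 3)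
      (cf_lt A B i 4) (cf_lt A B i 5) (cf_lt A B i 6) k
  simp only [hd, List.getD_cons_zero, List.getD_cons_succ]
  unfold rowN
  simp only [val_mul_apply']

theorem encN_mul (A B : Matrix (Fin 7) (Fin 7) (ZMod 11)) :
    encN (A * B) = mulN (encN A) (encN B) := by
  unfold mulN
  simp only [rw7_encN, List.getD_cons_zero, List.getD_cons_succ, mulRowN_spec]
  rfl

theorem encN_injective : Function.Injective encN := by
  intro A B h
  have hr : ∀ i : Fin 7, rowN A i = rowN B i := by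
    intro i
    have h1 := rw7_encN A i.val
    have h2 := rw7_encN B i.val
    rw [h] at h1
    rw [h1] at h2
    fin_cases i <;> simpa using h2
  ext i j
  apply ZMod.val_injective 11
  have h1 := dg_rowN A i j.val
  have h2 := dg_rowN B i j.val
  rw [hr i] at h1
  rw [h1] at h2
  fin_cases j <;> simpa using h2

attribute [irreducible] mulN

/-- the encoding of the identity -/
def oneN : ℕ := 0x1000000000000000000010000000000000000000100000000000000000001000000000000000000010000000000000000000100000000000000000001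

theorem encN_one : encN 1 = oneN := by decide +kernel

attribute [irreducible] encN

end Cfsg.Agent.Lib.Helper3.J1
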