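import Mathlib
import Cfsg.Prelude.Def_Spor_J1
import Cfsg.Agent.Lib.Helper3.J1.DataH

set_option autoImplicit false

/-! The generators of `J1`, certified words, the point stabilizer of order 110 and a subgroup of
order 56. -/

namespace Cfsg.Agent.Lib.Helper3.J1

open Cfsg Cfsg.Spor

/-- the group -/
abbrev G : Subgroup Γ := Cfsg.Spor.J1

theorem hasEnc_X : HasEnc jankoX eX := by
  unfold HasEnc
  decide +kernel
theorem hasEnc_Y : HasEnc jankoY eY := by
  unfold HasEnc
  decide +kernel
theorem hasEnc_Xi : HasEnc jankoX⁻¹ eXi := by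
  unfold HasEnc
  decide +kernel
theorem hasEnc_Yi : HasEnc jankoY⁻¹ eYi := by
  unfold HasEnc
  decide +kernel

theorem X_mem : jankoX ∈ G := Subgroup.subset_closure (by simp)
theorem Y_mem : jankoY ∈ G := Subgroup.subset_closure (by simp)

theorem isOrth_X : IsOrth jankoX := rfl
theorem isOrth_Y : IsOrth jankoY := rfl

theorem isOrth_of_mem {g : Γ} (hg : g ∈ G) : IsOrth g := by
  apply isOrth_of_mem_closure _ hg
  intro s hs
  rcases hs with rfl | hs
  · exact isOrth_X
  · rw [Set.mem_singleton_iff] at hs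
    subst hs
    exact isOrth_Y

/-- the encodings of the generators and their inverses -/
def S4 : List ℕ := [eX, eY, eXi, eYi]

theorem S4_sound : ∀ s ∈ S4, SoundIn G s := by
  intro s hs
  simp only [S4, List.mem_cons, List.not_mem_nil, or_false] at hs
  rcases hs with rfl | rfl | rfl | rfl
  · exact ⟨_, X_mem, hasEnc_X⟩
  · exact ⟨_, Y_mem, hasEnc_Y⟩
  · exact ⟨_, G.inv_mem X_mem, hasEnc_Xi⟩
  · exact ⟨_, G.inv_mem Y_mem, hasEnc_Yi⟩

theorem SoundIn.transpose {K : Subgroup Γ} (hK : K ≤ G) {n : ℕ} (h : SoundIn K n) :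
    SoundIn K (transposeN n) := by
  obtain ⟨g, hg, hgn⟩ := h
  exact ⟨g⁻¹, K.inv_mem hg, (isOrth_of_mem (hK hg)).hasEnc_inv hgn⟩

set_option maxRecDepth 100000 in
theorem WE_ok : treeChk S4 [oneN] WE = true := by decide +kernel

theorem WE_sound : ∀ e ∈ WE, SoundIn G e.2.2 :=
  treeChk_sound S4_sound WE [oneN] (by
    intro e he
    rw [List.mem_singleton] at he
    subst he
    exact soundIn_one G) WE_ok

set_option maxRecDepth 100000 in
theorem WE_vals : WE.any (fun e => Nat.beq e.2.2 eU) = true ∧ WE.any (fun e => Nat.beq e.2.2 eV) = true ∧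
    WE.any (fun e => Nat.beq e.2.2 eG19) = true ∧ WE.any (fun e => Nat.beq e.2.2 eG3) = true ∧
    WE.any (fun e => Nat.beq e.2.2 eA) = true := by
  decide +kernel

theorem sound_of_any {n : ℕ} (h : WE.any (fun e => Nat.beq e.2.2 n) = true) : SoundIn G n := by
  rw [List.any_eq_true] at h
  obtain ⟨e, he, hen⟩ := h
  rw [← Nat.eq_of_beq_eq_true hen]
  exact WE_sound e he

theorem sound_U : SoundIn G eU := sound_of_any WE_vals.1
theorem sound_V : SoundIn G eV := sound_of_any WE_vals.2.1
theorem sound_G19 : SoundIn G eG19 := sound_of_any WE_vals.2.2.1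
theorem sound_G3 : SoundIn G eG3 := sound_of_any WE_vals.2.2.2.1
theorem sound_A : SoundIn G eA := sound_of_any WE_vals.2.2.2.2

/-- the generators of the point stabilizer -/
noncomputable def uG : Γ := sound_U.choose
noncomputable def vG : Γ := sound_V.choose
theorem uG_mem : uG ∈ G := sound_U.choose_spec.1
theorem vG_mem : vG ∈ G := sound_V.choose_spec.1
theorem hasEnc_uG : HasEnc uG eU := sound_U.choose_spec.2
theorem hasEnc_vG : HasEnc vG eV := sound_V.choose_spec.2

/-- nodup check -/
def nodupB : List ℕ → Bool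
  | [] => true
  | x :: xs => !(memN xs x) && nodupB xs

theorem nodupB_sound : ∀ {L : List ℕ}, nodupB L = true → L.Nodup
  | [], _ => List.nodup_nil
  | x :: xs, h => by
    unfold nodupB at h
    rw [Bool.and_eq_true, Bool.not_eq_true'] at h
    rw [List.nodup_cons]
    refine ⟨?_, nodupB_sound h.2⟩
    intro hx
    have : memN xs x = true := by
      unfold memN
      rw [List.any_eq_true]
      exact ⟨x, hx, Nat.beq_refl x⟩
    rw [this] at h
    exact absurd h.1 (by simp)

/-- the subgroup generated by two elements, described by a certified list of encodings -/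
theorem list_subgroup {a b : Γ} {ea eb : ℕ} (ha : HasEnc a ea) (hb : HasEnc b eb) (haG : a ∈ G)
    (hbG : b ∈ G) (E : List (ℕ × ℕ × ℕ))
    (htree : treeChk [ea, eb] [oneN] E = true)
    (hclosed : leftClosedChk [ea, eb, transposeN ea, transposeN eb] (oneN :: E.map (·.2.2)) = true)
    (hnodup : nodupB (oneN :: E.map (·.2.2)) = true) :
    (∀ e ∈ oneN :: E.map (·.2.2), SoundIn (Subgroup.closure ({a, b} : Set Γ)) e) ∧
    (∀ g ∈ Subgroup.closure ({a, b} : Set Γ), ∃ e ∈ oneN :: E.map (·.2.2), HasEnc g e) ∧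
    Nat.card ↥(Subgroup.closure ({a, b} : Set Γ)) = E.length + 1 := by
  set K := Subgroup.closure ({a, b} : Set Γ) with hK
  have haK : a ∈ K := Subgroup.subset_closure (by simp)
  have hbK : b ∈ K := Subgroup.subset_closure (by simp)
  have hS : ∀ s ∈ [ea, eb], SoundIn K s := by
    intro s hs
    simp only [List.mem_cons, List.not_mem_nil, or_false] at hs
    rcases hs with rfl | rfl
    · exact ⟨a, haK, ha⟩
    · exact ⟨b, hbK, hb⟩
  have h1 : ∀ e ∈ oneN :: E.map (·.2.2), SoundIn K e := by
    intro e he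
    rw [List.mem_cons] at he
    rcases he with rfl | he
    · exact soundIn_one K
    · rw [List.mem_map] at he
      obtain ⟨x, hx, rfl⟩ := he
      exact treeChk_sound hS E [oneN] (by
        intro e he
        rw [List.mem_singleton] at he
        subst he
        exact soundIn_one K) htree x hx
  have h2 : ∀ g ∈ K, ∃ e ∈ oneN :: E.map (·.2.2), HasEnc g e := by
    apply cover0 ha hb ((isOrth_of_mem haG).hasEnc_inv ha) ((isOrth_of_mem hbG).hasEnc_inv hb)
    · exact List.mem_cons_self
    · exact leftClosedChk_sound hclosed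
  refine ⟨h1, h2, ?_⟩
  -- the bijection with the list
  have hnd := nodupB_sound hnodup
  have hcard : (oneN :: E.map (·.2.2)).toFinset.card = E.length + 1 := by
    rw [List.toFinset_card_of_nodup hnd]
    simp
  rw [← hcard, ← Nat.card_eq_finsetCard]
  apply Nat.card_congr
  refine Equiv.ofBijective (fun g => ⟨encN (g.1 : Matrix (Fin 7) (Fin 7) (ZMod 11)), ?_⟩) ⟨?_, ?_⟩
  · obtain ⟨e, he, hge⟩ := h2 g.1 g.2
    rw [List.mem_toFinset]
    have : encN (g.1 : Matrix (Fin 7) (Fin 7) (ZMod 11)) = e := hge
    rw [this]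
    exact he
  · intro g g' hgg
    apply Subtype.ext
    have h3 : encN (g.1 : Matrix (Fin 7) (Fin 7) (ZMod 11)) = encN (g'.1 : Matrix (Fin 7) (Fin 7) (ZMod 11)) :=
      congrArg Subtype.val hgg
    exact HasEnc.inj (n := encN (g'.1 : Matrix (Fin 7) (Fin 7) (ZMod 11))) h3 rfl
  · rintro ⟨e, he⟩
    rw [List.mem_toFinset] at he
    obtain ⟨g, hg, hge⟩ := h1 e he
    exact ⟨⟨g, hg⟩, Subtype.ext hge⟩

/-- the point stabilizer -/
noncomputable def H : Subgroup Γ := Subgroup.closure ({uG, vG} : Set Γ)

/-- the encodings of the elements of the point stabilizer -/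
def HL : List ℕ := oneN :: HE.map (·.2.2)

set_option maxRecDepth 100000 in
theorem HE_tree : treeChk [eU, eV] [oneN] HE = true := by decide +kernel

set_option maxRecDepth 100000 in
theorem HE_closed : leftClosedChk [eU, eV, transposeN eU, transposeN eV] HL = true := by
  decide +kernel

set_option maxRecDepth 100000 in
theorem HE_nodup : nodupB HL = true := by decide +kernel

theorem H_facts : (∀ e ∈ HL, SoundIn H e) ∧ (∀ g ∈ H, ∃ e ∈ HL, HasEnc g e) ∧ Nat.card ↥H = 110 := by
  have := list_subgroup hasEnc_uG hasEnc_vG uG_mem vG_mem HE HE_tree HE_closed HE_nodup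
  refine ⟨this.1, this.2.1, ?_⟩
  rw [H, this.2.2]
  decide +kernel

theorem H_le : H ≤ G := by
  rw [H, Subgroup.closure_le]
  intro s hs
  rcases hs with rfl | hs
  · exact uG_mem
  · rw [Set.mem_singleton_iff] at hs
    subst hs
    exact vG_mem

/-- a subgroup of order 56 -/
noncomputable def aG : Γ := sound_A.choose
theorem aG_mem : aG ∈ G := sound_A.choose_spec.1
theorem hasEnc_aG : HasEnc aG eA := sound_A.choose_spec.2

noncomputable def K56 : Subgroup Γ := Subgroup.closure ({aG, jankoX} : Set Γ)

def KL : List ℕ := oneN :: KE.map (·.2.2)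

set_option maxRecDepth 100000 in
theorem KE_tree : treeChk [eA, eX] [oneN] KE = true := by decide +kernel

set_option maxRecDepth 100000 in
theorem KE_closed : leftClosedChk [eA, eX, transposeN eA, transposeN eX] KL = true := by
  decide +kernel

set_option maxRecDepth 100000 in
theorem KE_nodup : nodupB KL = true := by decide +kernel

theorem K56_card : Nat.card ↥K56 = 56 := by
  have := list_subgroup hasEnc_aG hasEnc_X aG_mem X_mem KE KE_tree KE_closed KE_nodup
  rw [K56, this.2.2]
  decide +kernel

theorem K56_le : K56 ≤ G := by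
  rw [K56, Subgroup.closure_le]
  intro s hs
  rcases hs with rfl | hs
  · exact aG_mem
  · rw [Set.mem_singleton_iff] at hs
    subst hs
    exact X_mem

end Cfsg.Agent.Lib.Helper3.J1
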