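import Mathlib
import Cfsg.Agent.Lib.Helper3.J1.HGroup
import Cfsg.Agent.Lib.Helper3.J1.DataT

set_option autoImplicit false

/-! The transversal of the point stabilizer in `J1` is certified. -/

namespace Cfsg.Agent.Lib.Helper3.J1

open Cfsg Cfsg.Spor

/-- the transversal -/
def TL : List ℕ := LL.flatten

/-- the entries of the Schreier tree -/
def TE : List (ℕ × ℕ × ℕ) := (TC.zip TL.tail).map fun x => (x.1.1, x.1.2, x.2)

set_option maxRecDepth 1000000 in
theorem TE_tree : (Nat.beq TC.length TL.tail.length && Nat.beq (TL.headD 0) oneN &&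
    treeChk S4 [oneN] TE) = true := by
  decide +kernel

theorem mem_zip_of_length_eq {α β : Type*} : ∀ {A : List α} {B : List β}, A.length = B.length →
    ∀ b ∈ B, ∃ a, (a, b) ∈ A.zip B
  | [], [], _, b, hb => by simp at hb
  | [], _ :: _, h, _, _ => by simp at h
  | _ :: _, [], h, _, _ => by simp at h
  | a :: A, b' :: B, h, b, hb => by
    rw [List.mem_cons] at hb
    rcases hb with rfl | hb
    · exact ⟨a, by simp⟩
    · have hlen : A.length = B.length := by simpa using h
      obtain ⟨a', ha'⟩ := mem_zip_of_length_eq hlen b hb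
      exact ⟨a', by simp [ha']⟩

theorem TL_eq : TL = oneN :: TL.tail := by
  have h := TE_tree
  rw [Bool.and_eq_true, Bool.and_eq_true] at h
  have h1 : TL.headD 0 = oneN := Nat.eq_of_beq_eq_true h.1.2
  cases hT : TL with
  | nil => rw [hT] at h1; exact absurd h1 (by decide +kernel)
  | cons a t =>
    rw [hT] at h1
    simp only [List.headD_cons] at h1
    rw [h1]
    rfl

theorem TL_sound : ∀ t ∈ TL, SoundIn G t := by
  have h := TE_tree
  rw [Bool.and_eq_true, Bool.and_eq_true] at h
  have hlen : TC.length = TL.tail.length := Nat.eq_of_beq_eq_true h.1.1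
  have hs := treeChk_sound S4_sound TE [oneN] (by
    intro e he
    rw [List.mem_singleton] at he
    subst he
    exact soundIn_one G) h.2
  intro t ht
  rw [TL_eq, List.mem_cons] at ht
  rcases ht with rfl | ht
  · exact soundIn_one G
  · obtain ⟨c, hc⟩ := mem_zip_of_length_eq hlen t ht
    have : (c.1, c.2, t) ∈ TE := by
      unfold TE
      rw [List.mem_map]
      exact ⟨(c, t), hc, rfl⟩
    exact hs _ this

theorem one_mem_TL : oneN ∈ TL := by
  rw [TL_eq]
  exact List.mem_cons_self

end Cfsg.Agent.Lib.Helper3.J1
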