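import Mathlib
import Cfsg.Agent.Lib.Helper3.J1.TGroup
import Cfsg.Agent.Lib.Helper3.J1.DataC

set_option autoImplicit false

/-! The covering condition for one generator. -/

namespace Cfsg.Agent.Lib.Helper3.J1

set_option maxRecDepth 1000000 in
theorem covXi_ok : coverChkZ eXi 40 1000 LL [HL] covXi = true := by
  decide +kernel

end Cfsg.Agent.Lib.Helper3.J1
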