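import Mathlib
import Cfsg.Agent.Lib.Helper3.J1.CovX
import Cfsg.Agent.Lib.Helper3.J1.CovY
import Cfsg.Agent.Lib.Helper3.J1.CovXi
import Cfsg.Agent.Lib.Helper3.J1.CovYi

set_option autoImplicit false

/-! The order of `J1` is `175560`. -/

namespace Cfsg.Agent.Lib.Helper3.J1

open Cfsg Cfsg.Spor

theorem flatten_single (L : List ℕ) : [L].flatten = L := by simp

/-- every element of `J1` is the product of a transversal element with an element of the point
stabilizer -/
theorem G_cover : ∀ g ∈ G, ∃ t ∈ TL, ∃ tg : Γ, HasEnc tg t ∧ ∃ h ∈ H, g = tg * h := by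
  apply cover hasEnc_X hasEnc_Y hasEnc_Xi hasEnc_Yi TL H HL
  · intro e he
    exact H_facts.1 e he
  · intro e he
    obtain ⟨g, -, hg⟩ := TL_sound e he
    exact ⟨g, hg⟩
  · exact one_mem_TL
  · intro s hs
    simp only [List.mem_cons, List.not_mem_nil, or_false] at hs
    have key : ∀ {s : ℕ} {cs : List (ℕ × ℕ)}, coverChkZ s 40 1000 LL [HL] cs = true →
        ∀ t ∈ TL, ∃ t' ∈ TL, ∃ h ∈ HL, mulN s t = mulN t' h := by
      intro s cs h
      have := coverChkZ_sound h
      rw [flatten_single] at this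
      exact this
    rcases hs with rfl | rfl | rfl | rfl
    · exact key covX_ok
    · exact key covY_ok
    · exact key covXi_ok
    · exact key covYi_ok

/-- the element with a given encoding in the transversal -/
theorem TL_elt {t : ℕ} (ht : t ∈ TL) : ∃ g ∈ G, HasEnc g t := TL_sound t ht

theorem card_G_le : Nat.card ↥G ≤ 175560 := by
  classical
  -- an injection into pairs (encoding of the transversal element, element of `H`)
  have hch : ∀ g : ↥G, ∃ p : ↥TL.toFinset × ↥H, ∃ tg : Γ, HasEnc tg p.1.1 ∧ g.1 = tg * p.2.1 := by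
    intro g
    obtain ⟨t, ht, tg, htg, h, hh, hg⟩ := G_cover g.1 g.2
    exact ⟨(⟨t, List.mem_toFinset.mpr ht⟩, ⟨h, hh⟩), tg, htg, hg⟩
  choose f hf using hch
  have hinj : Function.Injective f := by
    intro g g' hgg
    obtain ⟨tg, h1, h2⟩ := hf g
    obtain ⟨tg', h1', h2'⟩ := hf g'
    rw [hgg] at h1 h2
    have : tg = tg' := h1.inj h1'
    apply Subtype.ext
    rw [h2, h2', this]
  have h1 := Nat.card_le_card_of_injective f hinj
  rw [Nat.card_prod, H_facts.2.2, Nat.card_eq_finsetCard] at h1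
  have h2 : TL.toFinset.card ≤ 1596 := by
    refine le_trans (List.toFinset_card_le TL) ?_
    exact Nat.le_of_eq (by decide +kernel)
  calc Nat.card ↥G ≤ TL.toFinset.card * 110 := h1
    _ ≤ 1596 * 110 := Nat.mul_le_mul_right _ h2
    _ = 175560 := by norm_num

/-- powers of encodings -/
def powN (a : ℕ) : ℕ → ℕ
  | 0 => oneN
  | n + 1 => mulN a (powN a n)

theorem HasEnc.pow {g : Γ} {a : ℕ} (hg : HasEnc g a) : ∀ n : ℕ, HasEnc (g ^ n) (powN a n)
  | 0 => by rw [pow_zero]; exact hasEnc_one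
  | n + 1 => by rw [pow_succ']; exact hg.mul (HasEnc.pow hg n)

theorem cert_orders : (Nat.beq (powN eG19 19) oneN && !(Nat.beq eG19 oneN) &&
    Nat.beq (powN eG3 3) oneN && !(Nat.beq eG3 oneN) && Nat.beq (powN eX 7) oneN) = true := by
  decide +kernel

theorem orderOf_of_cert {g : Γ} {a p : ℕ} (hp : p.Prime) (hg : HasEnc g a)
    (h1 : powN a p = oneN) (h2 : a ≠ oneN) : orderOf g = p := by
  haveI := Fact.mk hp
  apply orderOf_eq_prime
  · exact (hg.pow p).inj (by rw [h1]; exact hasEnc_one)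
  · intro hcon
    rw [hcon] at hg
    exact h2 (hg.symm.trans hasEnc_one)

theorem dvd_card_of_sound {a p : ℕ} (hp : p.Prime) (hs : SoundIn G a) (h1 : powN a p = oneN)
    (h2 : a ≠ oneN) : p ∣ Nat.card ↥G := by
  obtain ⟨g, hg, hga⟩ := hs
  have ho := orderOf_of_cert hp hga h1 h2
  have : orderOf (⟨g, hg⟩ : ↥G) = p := by rw [← ho]; exact (Subgroup.orderOf_mk g hg)
  rw [← this]
  exact orderOf_dvd_natCard _

theorem card_G : Nat.card ↥G = 175560 := by
  have hc := cert_orders
  simp only [Bool.and_eq_true, Bool.not_eq_true'] at hc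
  obtain ⟨⟨⟨⟨h19, n19⟩, h3⟩, n3⟩, -⟩ := hc
  have d19 : 19 ∣ Nat.card ↥G := dvd_card_of_sound (by norm_num) sound_G19
    (Nat.eq_of_beq_eq_true h19) (by intro h; rw [h] at n19; simp at n19)
  have d3 : 3 ∣ Nat.card ↥G := dvd_card_of_sound (by norm_num) sound_G3
    (Nat.eq_of_beq_eq_true h3) (by intro h; rw [h] at n3; simp at n3)
  have d110 : 110 ∣ Nat.card ↥G := by
    rw [← H_facts.2.2]; exact Subgroup.card_dvd_of_le H_le
  have d56 : 56 ∣ Nat.card ↥G := by
    rw [← K56_card]; exact Subgroup.card_dvd_of_le K56_le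
  have hle := card_G_le
  have hpos : 0 < Nat.card ↥G := Nat.card_pos
  have hdvd : 175560 ∣ Nat.card ↥G := by
    have e : (175560 : ℕ) = Nat.lcm (Nat.lcm 19 3) (Nat.lcm 110 56) := by decide +kernel
    rw [e]
    exact Nat.lcm_dvd (Nat.lcm_dvd d19 d3) (Nat.lcm_dvd d110 d56)
  exact le_antisymm hle (Nat.le_of_dvd hpos hdvd)

end Cfsg.Agent.Lib.Helper3.J1
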