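import Mathlib
import Cfsg.Agent.Lib.Helper3.J1.Order
import Cfsg.Agent.Lib.Helper3.J1.DataCent

set_option autoImplicit false

/-! The centralizer in `J1` of the involution `z = v ^ 5` of the point stabilizer: a complete list
of its 120 elements. -/

namespace Cfsg.Agent.Lib.Helper3.J1

open Cfsg Cfsg.Spor

/-- the involution -/
noncomputable def zG : Γ := vG ^ 5
def eZ : ℕ := powN eV 5

theorem hasEnc_zG : HasEnc zG eZ := hasEnc_vG.pow 5
theorem zG_memH : zG ∈ H := H.pow_mem (Subgroup.subset_closure (by simp)) 5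
theorem zG_mem : zG ∈ G := H_le zG_memH

/-- the element of order 5 -/
noncomputable def wG : Γ := vG ^ 2
def eW : ℕ := powN eV 2
theorem hasEnc_wG : HasEnc wG eW := hasEnc_vG.pow 2
theorem wG_mem : wG ∈ G := G.pow_mem vG_mem 2

/-- elements given by a pair of indices -/
def pairN (i : ℕ × ℕ) : ℕ := mulN (get2 40 LL i.1) (HL.getD i.2 0)

theorem pairN_sound {i : ℕ × ℕ} (h1 : get2 40 LL i.1 ≠ 0) (h2 : i.2 < HL.length) :
    SoundIn G (pairN i) := by
  apply SoundIn.mul
  · exact TL_sound _ (get2_mem h1)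
  · obtain ⟨g, hg, hge⟩ := H_facts.1 _ (getD_mem h2)
    exact ⟨g, H_le hg, hge⟩

def eA6 : ℕ := pairN iA6
def eR : ℕ := pairN iR

theorem cert_pairs : (!(Nat.beq (get2 40 LL iA6.1) 0) && Nat.blt iA6.2 HL.length &&
    !(Nat.beq (get2 40 LL iR.1) 0) && Nat.blt iR.2 HL.length) = true := by decide +kernel

theorem sound_A6 : SoundIn G eA6 := by
  have h := cert_pairs
  simp only [Bool.and_eq_true, Bool.not_eq_true', Nat.blt_eq] at h
  obtain ⟨⟨⟨h1, h2⟩, -⟩, -⟩ := h
  exact pairN_sound (by intro hc; rw [hc] at h1; simp at h1) h2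

theorem sound_R : SoundIn G eR := by
  have h := cert_pairs
  simp only [Bool.and_eq_true, Bool.not_eq_true', Nat.blt_eq] at h
  obtain ⟨⟨⟨-, -⟩, h3⟩, h4⟩ := h
  exact pairN_sound (by intro hc; rw [hc] at h3; simp at h3) h4

noncomputable def a6G : Γ := sound_A6.choose
theorem a6G_mem : a6G ∈ G := sound_A6.choose_spec.1
theorem hasEnc_a6G : HasEnc a6G eA6 := sound_A6.choose_spec.2

noncomputable def rG : Γ := sound_R.choose
theorem rG_mem : rG ∈ G := sound_R.choose_spec.1
theorem hasEnc_rG : HasEnc rG eR := sound_R.choose_spec.2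

/-- the centralizer, as a subgroup generated by two elements -/
noncomputable def C120 : Subgroup Γ := Subgroup.closure ({a6G, wG} : Set Γ)

def CL : List ℕ := oneN :: CE.map (·.2.2)

set_option maxRecDepth 100000 in
theorem CE_tree : treeChk [eA6, eW] [oneN] CE = true := by decide +kernel

set_option maxRecDepth 100000 in
theorem CE_closed : leftClosedChk [eA6, eW, transposeN eA6, transposeN eW] CL = true := by
  decide +kernel

set_option maxRecDepth 100000 in
theorem CE_nodup : nodupB CL = true := by decide +kernel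

theorem C120_facts : (∀ e ∈ CL, SoundIn C120 e) ∧ (∀ g ∈ C120, ∃ e ∈ CL, HasEnc g e) ∧
    Nat.card ↥C120 = 120 := by
  have := list_subgroup hasEnc_a6G hasEnc_wG a6G_mem wG_mem CE CE_tree CE_closed CE_nodup
  refine ⟨this.1, this.2.1, ?_⟩
  rw [C120, this.2.2]
  decide +kernel

theorem C120_le : C120 ≤ G := by
  rw [C120, Subgroup.closure_le]
  intro s hs
  rcases hs with rfl | hs
  · exact a6G_mem
  · rw [Set.mem_singleton_iff] at hs
    subst hs
    exact wG_mem

/-- the generators commute with the involution -/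
theorem cert_comm : (Nat.beq (mulN eA6 eZ) (mulN eZ eA6) && Nat.beq (mulN eW eZ) (mulN eZ eW)) = true := by
  decide +kernel

theorem C120_comm : ∀ g ∈ C120, g * zG = zG * g := by
  have h := cert_comm
  rw [Bool.and_eq_true] at h
  have h1 : a6G * zG = zG * a6G := by
    have e1 := hasEnc_a6G.mul hasEnc_zG
    rw [Nat.eq_of_beq_eq_true h.1] at e1
    exact e1.inj (hasEnc_zG.mul hasEnc_a6G)
  have h2 : wG * zG = zG * wG := by
    have e1 := hasEnc_wG.mul hasEnc_zG
    rw [Nat.eq_of_beq_eq_true h.2] at e1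
    exact e1.inj (hasEnc_zG.mul hasEnc_wG)
  have : C120 ≤ Subgroup.centralizer {zG} := by
    rw [C120, Subgroup.closure_le]
    intro s hs
    rw [SetLike.mem_coe, Subgroup.mem_centralizer_iff]
    intro y hy
    rw [Set.mem_singleton_iff] at hy
    subst hy
    rcases hs with rfl | hs
    · exact h1.symm
    · rw [Set.mem_singleton_iff] at hs
      subst hs
      exact h2.symm
  intro g hg
  have := Subgroup.mem_centralizer_iff.mp (this hg) zG rfl
  exact this.symm

-- the transversal elements fixed by the involution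
set_option maxRecDepth 1000000 in
theorem cert_fix : (TL.all fun t => !(memN HL (mulN (mulN (transposeN t) eZ) t)) || memN T12 t) = true := by
  decide +kernel

set_option maxRecDepth 1000000 in
theorem cert_cent : (T12.all fun t => HL.all fun h =>
    !(Nat.beq (mulN (mulN t h) eZ) (mulN eZ (mulN t h))) || memN CL (mulN t h)) = true := by
  decide +kernel

theorem memN_complete {L : List ℕ} {x : ℕ} (h : x ∈ L) : memN L x = true := by
  unfold memN
  rw [List.any_eq_true]
  exact ⟨x, h, Nat.beq_refl x⟩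

/-- decomposition of an element of `J1` with its encoding -/
theorem G_cover' {g : Γ} (hg : g ∈ G) : ∃ t ∈ TL, ∃ tg ∈ G, HasEnc tg t ∧ ∃ eh ∈ HL, ∃ h ∈ H,
    HasEnc h eh ∧ g = tg * h := by
  obtain ⟨t, ht, tg, htg, h, hh, rfl⟩ := G_cover g hg
  obtain ⟨tg', htg', htg'e⟩ := TL_sound t ht
  have : tg = tg' := htg.inj htg'e
  subst this
  obtain ⟨eh, heh, hhe⟩ := H_facts.2.1 h hh
  exact ⟨t, ht, tg, htg', htg, eh, heh, h, hh, hhe, rfl⟩

/-- every element of `J1` commuting with `z` is in the list -/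
theorem cent_list {g : Γ} (hg : g ∈ G) (hc : g * zG = zG * g) : ∃ e ∈ CL, HasEnc g e := by
  obtain ⟨t, ht, tg, htgG, htg, eh, heh, h, hh, hhe, rfl⟩ := G_cover' hg
  -- the conjugate of `z` by the transversal element lies in `H`
  have h1 : tg⁻¹ * zG * tg = h * zG * h⁻¹ := by
    have : tg * h * zG = zG * (tg * h) := hc
    calc tg⁻¹ * zG * tg = tg⁻¹ * (zG * (tg * h)) * h⁻¹ := by group
      _ = tg⁻¹ * (tg * h * zG) * h⁻¹ := by rw [this]
      _ = h * zG * h⁻¹ := by group
  have h2 : tg⁻¹ * zG * tg ∈ H := by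
    rw [h1]
    exact H.mul_mem (H.mul_mem hh zG_memH) (H.inv_mem hh)
  obtain ⟨e', he', hee'⟩ := H_facts.2.1 _ h2
  have h3 : HasEnc (tg⁻¹ * zG * tg) (mulN (mulN (transposeN t) eZ) t) :=
    (((isOrth_of_mem htgG).hasEnc_inv htg).mul hasEnc_zG).mul htg
  have h4 : mulN (mulN (transposeN t) eZ) t = e' := h3.symm.trans hee'
  have c1 := cert_fix
  rw [List.all_eq_true] at c1
  have c2 := c1 t ht
  rw [h4, memN_complete he', Bool.not_true, Bool.false_or] at c2
  have ht12 : t ∈ T12 := memN_sound c2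
  have c3 := cert_cent
  rw [List.all_eq_true] at c3
  have c4 := c3 t ht12
  rw [List.all_eq_true] at c4
  have c5 := c4 eh heh
  have e1 : HasEnc (tg * h * zG) (mulN (mulN t eh) eZ) := (htg.mul hhe).mul hasEnc_zG
  have e2 : HasEnc (zG * (tg * h)) (mulN eZ (mulN t eh)) := hasEnc_zG.mul (htg.mul hhe)
  rw [hc] at e1
  have e3 : mulN (mulN t eh) eZ = mulN eZ (mulN t eh) := e1.symm.trans e2
  rw [e3, Nat.beq_refl, Bool.not_true, Bool.false_or] at c5
  exact ⟨_, memN_sound c5, htg.mul hhe⟩

/-- the centralizer of `z` in `J1` is `C120` -/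
theorem cent_eq {g : Γ} (hg : g ∈ G) : g * zG = zG * g ↔ g ∈ C120 := by
  constructor
  · intro hc
    obtain ⟨e, he, hge⟩ := cent_list hg hc
    obtain ⟨g', hg', hg'e⟩ := C120_facts.1 e he
    rw [hge.inj hg'e]
    exact hg'
  · exact C120_comm g

end Cfsg.Agent.Lib.Helper3.J1
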