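import Mathlib
import Cfsg.Agent.Lib.Helper3.J1.Cent
import Cfsg.Agent.Lib.Helper3.J1.DataTab

set_option autoImplicit false

/-! The multiplication table of the involution centralizer in terms of codes for `2 × S5`. -/

namespace Cfsg.Agent.Lib.Helper3.J1

/-- table lookup -/
def lookN : List (ℕ × ℕ) → ℕ → ℕ
  | [], _ => 0
  | (k, c) :: rest, e => cond (Nat.beq k e) c (lookN rest e)

theorem lookN_mem : ∀ {L : List (ℕ × ℕ)} {a : ℕ}, a ∈ L.map Prod.fst → (a, lookN L a) ∈ L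
  | [], _, h => by simp at h
  | (k, c) :: rest, a, h => by
    unfold lookN
    by_cases hk : Nat.beq k a = true
    · rw [hk, cond_true]
      have : k = a := Nat.eq_of_beq_eq_true hk
      rw [this]
      exact List.mem_cons_self
    · have hk' : Nat.beq k a = false := Bool.eq_false_iff.mpr hk
      rw [hk', cond_false]
      rw [List.map_cons, List.mem_cons] at h
      rcases h with h | h
      · exfalso
        apply hk
        show Nat.beq k a = true
        rw [h]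
        exact Nat.beq_refl _
      · exact List.mem_cons_of_mem _ (lookN_mem h)

def codeN (e : ℕ) : ℕ := lookN FT e

/-- digit of a code -/
def dg8 (c i : ℕ) : ℕ := (c / 8 ^ i) % 8

/-- product of codes -/
def compC (ca cb : ℕ) : ℕ :=
  ((ca / 32768 + cb / 32768) % 2) * 32768 + (dg8 ca (dg8 cb 0) + 8 * dg8 ca (dg8 cb 1) +
    64 * dg8 ca (dg8 cb 2) + 512 * dg8 ca (dg8 cb 3) + 4096 * dg8 ca (dg8 cb 4))

theorem dg8_lt (c i : ℕ) : dg8 c i < 8 := Nat.mod_lt _ (by norm_num)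

theorem dg8_sum {b d0 d1 d2 d3 d4 : ℕ} (h0 : d0 < 8) (h1 : d1 < 8) (h2 : d2 < 8) (h3 : d3 < 8)
    (h4 : d4 < 8) :
    dg8 (b * 32768 + (d0 + 8 * d1 + 64 * d2 + 512 * d3 + 4096 * d4)) 0 = d0 ∧
    dg8 (b * 32768 + (d0 + 8 * d1 + 64 * d2 + 512 * d3 + 4096 * d4)) 1 = d1 ∧
    dg8 (b * 32768 + (d0 + 8 * d1 + 64 * d2 + 512 * d3 + 4096 * d4)) 2 = d2 ∧
    dg8 (b * 32768 + (d0 + 8 * d1 + 64 * d2 + 512 * d3 + 4096 * d4)) 3 = d3 ∧
    dg8 (b * 32768 + (d0 + 8 * d1 + 64 * d2 + 512 * d3 + 4096 * d4)) 4 = d4 ∧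
    (b * 32768 + (d0 + 8 * d1 + 64 * d2 + 512 * d3 + 4096 * d4)) / 32768 = b := by
  unfold dg8
  refine ⟨?_, ?_, ?_, ?_, ?_, ?_⟩ <;> norm_num <;> omega

theorem dg8_compC (ca cb : ℕ) {i : ℕ} (hi : i < 5) : dg8 (compC ca cb) i = dg8 ca (dg8 cb i) := by
  have h := dg8_sum (b := (ca / 32768 + cb / 32768) % 2) (dg8_lt ca (dg8 cb 0)) (dg8_lt ca (dg8 cb 1))
    (dg8_lt ca (dg8 cb 2)) (dg8_lt ca (dg8 cb 3)) (dg8_lt ca (dg8 cb 4))
  unfold compC
  interval_cases i
  · exact h.1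
  · exact h.2.1
  · exact h.2.2.1
  · exact h.2.2.2.1
  · exact h.2.2.2.2.1

theorem bit_compC (ca cb : ℕ) : compC ca cb / 32768 = (ca / 32768 + cb / 32768) % 2 := by
  have h := dg8_sum (b := (ca / 32768 + cb / 32768) % 2) (dg8_lt ca (dg8 cb 0)) (dg8_lt ca (dg8 cb 1))
    (dg8_lt ca (dg8 cb 2)) (dg8_lt ca (dg8 cb 3)) (dg8_lt ca (dg8 cb 4))
  unfold compC
  exact h.2.2.2.2.2

/-- a row of the multiplication table -/
def chkRow (a ca : ℕ) : List (ℕ × ℕ) → Bool
  | [] => true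
  | (b, cb) :: rest => Nat.beq (codeN (mulN a b)) (compC ca cb) && chkRow a ca rest

theorem chkRow_sound {a ca : ℕ} : ∀ {L : List (ℕ × ℕ)}, chkRow a ca L = true →
    ∀ p ∈ L, codeN (mulN a p.1) = compC ca p.2
  | [], _, p, hp => by simp at hp
  | (b, cb) :: rest, h, p, hp => by
    unfold chkRow at h
    rw [Bool.and_eq_true] at h
    rw [List.mem_cons] at hp
    rcases hp with rfl | hp
    · exact Nat.eq_of_beq_eq_true h.1
    · exact chkRow_sound h.2 p hp

set_option maxRecDepth 1000000 in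
theorem cert_tab : (FT.all fun p => chkRow p.1 p.2 FT) = true := by
  decide +kernel

set_option maxRecDepth 100000 in
theorem cert_keys : FT.map Prod.fst = CL := by decide +kernel

/-- all digits are valid -/
theorem cert_valid : (FT.all fun p => Nat.blt (dg8 p.2 0) 5 && Nat.blt (dg8 p.2 1) 5 &&
    Nat.blt (dg8 p.2 2) 5 && Nat.blt (dg8 p.2 3) 5 && Nat.blt (dg8 p.2 4) 5 &&
    Nat.blt p.2 65536) = true := by
  decide +kernel

theorem code_mem {a : ℕ} (ha : a ∈ CL) : (a, codeN a) ∈ FT := by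
  rw [← cert_keys] at ha
  exact lookN_mem ha

theorem codeN_mul {a b : ℕ} (ha : a ∈ CL) (hb : b ∈ CL) :
    codeN (mulN a b) = compC (codeN a) (codeN b) := by
  have c := cert_tab
  rw [List.all_eq_true] at c
  exact chkRow_sound (c _ (code_mem ha)) _ (code_mem hb)

theorem code_valid {a : ℕ} (ha : a ∈ CL) : (∀ i < 5, dg8 (codeN a) i < 5) ∧ codeN a < 65536 := by
  have c := cert_valid
  rw [List.all_eq_true] at c
  have c1 := c _ (code_mem ha)
  simp only [Bool.and_eq_true, Nat.blt_eq] at c1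
  obtain ⟨⟨⟨⟨⟨h0, h1⟩, h2⟩, h3⟩, h4⟩, h5⟩ := c1
  refine ⟨?_, h5⟩
  intro i hi
  interval_cases i <;> assumption

end Cfsg.Agent.Lib.Helper3.J1
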