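import Mathlib
import Cfsg.Agent.Lib.Helper3.J1.Cent
import Cfsg.Agent.Lib.Helper3.J1.CentTab

set_option autoImplicit false

/-! The centralizer of the involution `z` in `J1` is isomorphic to `2 × A5`. -/

namespace Cfsg.Agent.Lib.Helper3.J1

open Cfsg Cfsg.Spor

def actN (e i : ℕ) : ℕ := dg8 (codeN e) i
def bitN (e : ℕ) : ℕ := codeN e / 32768

theorem cert_one : (Nat.beq (bitN oneN) 0 &&
    (List.range 5).all (fun i => Nat.beq (actN oneN i) i)) = true := by decide +kernel

set_option maxRecDepth 100000 in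
theorem cert_ker : (CL.all fun a => Nat.beq a oneN || !(Nat.beq (bitN a) 0 &&
    (List.range 5).all (fun i => Nat.beq (actN a i) i))) = true := by decide +kernel

theorem cert_z : ((List.range 5).all (fun i => Nat.beq (actN eZ i) i) && Nat.beq (powN eA6 3) eZ &&
    Nat.beq (powN eW 5) oneN && Nat.beq (powN eZ 2) oneN && !(Nat.beq eZ oneN)) = true := by
  decide +kernel

/-- the encoding of an element -/
def encG (g : Γ) : ℕ := encN (g : Matrix (Fin 7) (Fin 7) (ZMod 11))

theorem hasEnc_encG (g : Γ) : HasEnc g (encG g) := rfl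
theorem encG_mul (g h : Γ) : encG (g * h) = mulN (encG g) (encG h) :=
  (hasEnc_encG g).mul (hasEnc_encG h)
theorem encG_one : encG 1 = oneN := hasEnc_one
theorem encG_eq {g : Γ} {e : ℕ} (h : HasEnc g e) : encG g = e := h

theorem encG_mem (g : ↥C120) : encG (g : Γ) ∈ CL := by
  obtain ⟨e, he, hge⟩ := C120_facts.2.1 g.1 g.2
  rw [encG_eq hge]
  exact he

theorem tab_facts {a b : ℕ} (ha : a ∈ CL) (hb : b ∈ CL) :
    bitN (mulN a b) = (bitN a + bitN b) % 2 ∧
    ∀ i < 5, actN (mulN a b) i = actN a (actN b i) := by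
  unfold bitN actN
  rw [codeN_mul ha hb]
  exact ⟨bit_compC _ _, fun i hi => dg8_compC _ _ hi⟩

theorem actN_lt {e : ℕ} (he : e ∈ CL) {i : ℕ} (hi : i < 5) : actN e i < 5 :=
  (code_valid he).1 i hi

theorem bitN_lt {e : ℕ} (he : e ∈ CL) : bitN e < 2 := by
  unfold bitN
  have := (code_valid he).2
  omega

theorem one_facts : bitN oneN = 0 ∧ ∀ i < 5, actN oneN i = i := by
  have c := cert_one
  rw [Bool.and_eq_true, List.all_eq_true] at c
  exact ⟨Nat.eq_of_beq_eq_true c.1, fun i hi => Nat.eq_of_beq_eq_true (c.2 i (List.mem_range.mpr hi))⟩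

/-- the action on five points -/
noncomputable instance actC : MulAction ↥C120 (Fin 5) where
  smul g i := ⟨actN (encG (g : Γ)) i, actN_lt (encG_mem g) i.2⟩
  one_smul i := by
    apply Fin.ext
    show actN (encG ((1 : ↥C120) : Γ)) i = i
    rw [Subgroup.coe_one, encG_one]
    exact one_facts.2 i i.2
  mul_smul g h i := by
    apply Fin.ext
    show actN (encG ((g * h : ↥C120) : Γ)) i = actN (encG (g : Γ)) (actN (encG (h : Γ)) i)
    rw [Subgroup.coe_mul, encG_mul]
    exact (tab_facts (encG_mem g) (encG_mem h)).2 i i.2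

theorem smul_val (g : ↥C120) (i : Fin 5) : ((g • i : Fin 5) : ℕ) = actN (encG (g : Γ)) i := rfl

/-- the first component -/
noncomputable def F₁ : ↥C120 →* Multiplicative (ZMod 2) where
  toFun g := Multiplicative.ofAdd ((bitN (encG (g : Γ)) : ℕ) : ZMod 2)
  map_one' := by
    rw [Subgroup.coe_one, encG_one, one_facts.1]
    simp
  map_mul' g h := by
    rw [Subgroup.coe_mul, encG_mul, (tab_facts (encG_mem g) (encG_mem h)).1, ← ofAdd_add]
    congr 1
    rw [ZMod.natCast_mod, Nat.cast_add]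

/-- the second component -/
noncomputable def F₂ : ↥C120 →* Equiv.Perm (Fin 5) := MulAction.toPermHom ↥C120 (Fin 5)

theorem F₂_apply (g : ↥C120) (i : Fin 5) : F₂ g i = g • i := rfl

theorem zG_memC : zG ∈ C120 := by
  have c := cert_z
  simp only [Bool.and_eq_true, Bool.not_eq_true'] at c
  obtain ⟨⟨⟨⟨-, h2⟩, -⟩, -⟩, -⟩ := c
  have : zG = a6G ^ 3 := by
    have e := hasEnc_a6G.pow 3
    rw [Nat.eq_of_beq_eq_true h2] at e
    exact hasEnc_zG.inj e
  rw [this]
  exact C120.pow_mem (Subgroup.subset_closure (by simp)) 3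

theorem F₂_z : F₂ ⟨zG, zG_memC⟩ = 1 := by
  have c := cert_z
  simp only [Bool.and_eq_true, Bool.not_eq_true'] at c
  obtain ⟨⟨⟨⟨h1, -⟩, -⟩, -⟩, -⟩ := c
  rw [List.all_eq_true] at h1
  ext i
  rw [F₂_apply, smul_val, Equiv.Perm.one_apply]
  show actN (encG zG) i = i
  rw [encG_eq hasEnc_zG]
  exact Nat.eq_of_beq_eq_true (h1 i (List.mem_range.mpr i.2))

theorem units_eq_one_of_pow_odd {x : ℤˣ} {n : ℕ} (hn : Odd n) (h : x ^ n = 1) : x = 1 := by
  rcases Int.units_eq_one_or x with rfl | rfl
  · rfl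
  · rw [Odd.neg_one_pow hn] at h
    exact h

theorem sign_F₂ (g : ↥C120) : Equiv.Perm.sign (F₂ g) = 1 := by
  have c := cert_z
  simp only [Bool.and_eq_true, Bool.not_eq_true'] at c
  obtain ⟨⟨⟨⟨-, h2⟩, h3⟩, -⟩, -⟩ := c
  let χ : ↥C120 →* ℤˣ := Equiv.Perm.sign.comp F₂
  have hgen : ∀ x : ↥C120, (x : Γ) ∈ ({a6G, wG} : Set Γ) → χ x = 1 := by
    intro x hx'
    rcases hx' with h | h
    · -- the element of order 6
      have e3 : x ^ 3 = ⟨zG, zG_memC⟩ := by
        apply Subtype.ext
        rw [Subgroup.coe_pow, h]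
        have e := hasEnc_a6G.pow 3
        rw [Nat.eq_of_beq_eq_true h2] at e
        exact e.inj hasEnc_zG
      have : χ x ^ 3 = 1 := by
        rw [← map_pow, e3]
        show Equiv.Perm.sign (F₂ _) = 1
        rw [F₂_z, map_one]
      exact units_eq_one_of_pow_odd (by decide) this
    · rw [Set.mem_singleton_iff] at h
      have e5 : x ^ 5 = 1 := by
        apply Subtype.ext
        rw [Subgroup.coe_pow, h, Subgroup.coe_one]
        have e := hasEnc_wG.pow 5
        rw [Nat.eq_of_beq_eq_true h3] at e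
        exact e.inj hasEnc_one
      have : χ x ^ 5 = 1 := by rw [← map_pow, e5, map_one]
      exact units_eq_one_of_pow_odd (by decide) this
  have hχ : χ = 1 := by
    apply MonoidHom.eq_of_eqOn_dense (Subgroup.closure_closure_coe_preimage (k := ({a6G, wG} : Set Γ)))
    intro x hx
    exact hgen x hx
  have := DFunLike.congr_fun hχ g
  exact this

/-- the isomorphism -/
noncomputable def F : ↥C120 →* Multiplicative (ZMod 2) × ↥(alternatingGroup (Fin 5)) :=
  F₁.prod (F₂.codRestrict (alternatingGroup (Fin 5)) (fun g =>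
    Equiv.Perm.mem_alternatingGroup.mpr (sign_F₂ g)))

theorem F_injective : Function.Injective F := by
  rw [injective_iff_map_eq_one]
  intro g hg
  have h1 : F₁ g = 1 := congrArg Prod.fst hg
  have h2 : F₂ g = 1 := by
    have := congrArg (fun p => ((p.2 : ↥(alternatingGroup (Fin 5))) : Equiv.Perm (Fin 5))) hg
    exact this
  have c := cert_ker
  rw [List.all_eq_true] at c
  have c1 := c _ (encG_mem g)
  have hb : bitN (encG (g : Γ)) = 0 := by
    have : ((bitN (encG (g : Γ)) : ℕ) : ZMod 2) = 0 := by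
      have := congrArg Multiplicative.toAdd h1
      simpa [F₁] using this
    rw [ZMod.natCast_eq_zero_iff] at this
    have hlt : bitN (encG (g : Γ)) < 2 := bitN_lt (encG_mem g)
    exact Nat.eq_zero_of_dvd_of_lt this hlt
  have ha : ∀ i < 5, actN (encG (g : Γ)) i = i := by
    intro i hi
    have := DFunLike.congr_fun h2 ⟨i, hi⟩
    rw [F₂_apply, Equiv.Perm.one_apply] at this
    have := congrArg Fin.val this
    rwa [smul_val] at this
  have hall : ((List.range 5).all fun i => Nat.beq (actN (encG (g : Γ)) i) i) = true := by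
    rw [List.all_eq_true]
    intro i hi
    rw [ha i (List.mem_range.mp hi), Nat.beq_refl]
  rw [hb, hall] at c1
  simp only [Nat.beq_refl, Bool.and_self, Bool.not_true, Bool.or_false] at c1
  have := Nat.eq_of_beq_eq_true c1
  apply Subtype.ext
  rw [Subgroup.coe_one]
  exact (hasEnc_encG (g : Γ)).inj (by rw [this]; exact hasEnc_one)

theorem card_target : Nat.card (Multiplicative (ZMod 2) × ↥(alternatingGroup (Fin 5))) = 120 := by
  have h1 : Nat.card (Multiplicative (ZMod 2)) = 2 := by
    rw [Nat.card_eq_fintype_card, Fintype.card_multiplicative, ZMod.card]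
  have h2 : Nat.card ↥(alternatingGroup (Fin 5)) = 60 := by
    have := two_mul_nat_card_alternatingGroup (α := Fin 5)
    rw [Nat.card_perm, Nat.card_eq_fintype_card (α := Fin 5), Fintype.card_fin] at this
    have e : (5 : ℕ).factorial = 120 := by decide
    omega
  rw [Nat.card_prod, h1, h2]

noncomputable def centIso : ↥C120 ≃* Multiplicative (ZMod 2) × ↥(alternatingGroup (Fin 5)) := by
  haveI : Finite ↥C120 := Nat.finite_of_card_ne_zero (by rw [C120_facts.2.2]; norm_num)
  refine MulEquiv.ofBijective F ⟨F_injective, ?_⟩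
  have hfin : Finite (Multiplicative (ZMod 2) × ↥(alternatingGroup (Fin 5))) := inferInstance
  exact (Function.Injective.bijective_of_nat_card_le F_injective
    (by rw [card_target, C120_facts.2.2])).2

/-- the involution as an element of `J1` -/
noncomputable def z' : ↥G := ⟨zG, zG_mem⟩

theorem orderOf_z' : orderOf z' = 2 := by
  have c := cert_z
  simp only [Bool.and_eq_true, Bool.not_eq_true'] at c
  obtain ⟨⟨⟨⟨-, -⟩, -⟩, h4⟩, h5⟩ := c
  have := orderOf_of_cert Nat.prime_two hasEnc_zG (Nat.eq_of_beq_eq_true h4)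
    (by intro h; rw [h] at h5; simp at h5)
  exact (Subgroup.orderOf_mk zG zG_mem).trans this

theorem z'_val : (z' : Γ) = zG := by
  unfold z'
  rfl

theorem centHom_mem (g : ↥(Subgroup.centralizer ({z'} : Set ↥G))) : ((g : ↥G) : Γ) ∈ C120 := by
  have h1 := Subgroup.mem_centralizer_iff.mp g.2 z' rfl
  have h2 := congrArg Subtype.val h1
  rw [Subgroup.coe_mul, Subgroup.coe_mul, z'_val] at h2
  exact (cent_eq (g : ↥G).2).mp h2.symm

/-- the centralizer in `J1` maps into the subgroup `C120` -/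
noncomputable def centHom : ↥(Subgroup.centralizer ({z'} : Set ↥G)) →* ↥C120 where
  toFun g := ⟨((g : ↥G) : Γ), centHom_mem g⟩
  map_one' := by
    apply Subtype.ext
    show (((1 : ↥(Subgroup.centralizer ({z'} : Set ↥G))) : ↥G) : Γ) = ((1 : ↥C120) : Γ)
    rw [Subgroup.coe_one, Subgroup.coe_one, Subgroup.coe_one]
  map_mul' a b := by
    apply Subtype.ext
    show (((a * b : ↥(Subgroup.centralizer ({z'} : Set ↥G))) : ↥G) : Γ) =
      (((⟨((a : ↥G) : Γ), centHom_mem a⟩ : ↥C120) * ⟨((b : ↥G) : Γ), centHom_mem b⟩ : ↥C120) : Γ)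
    rw [Subgroup.coe_mul, Subgroup.coe_mul, Subgroup.coe_mul]

theorem centHom_apply (g : ↥(Subgroup.centralizer ({z'} : Set ↥G))) :
    centHom g = ⟨((g : ↥G) : Γ), centHom_mem g⟩ := rfl

theorem centHom_val (g : ↥(Subgroup.centralizer ({z'} : Set ↥G))) :
    ((centHom g : ↥C120) : Γ) = ((g : ↥G) : Γ) := by
  rw [centHom_apply]

theorem centHom_bijective : Function.Bijective centHom := by
  constructor
  · intro g h hgh
    have := congrArg Subtype.val hgh
    rw [centHom_val, centHom_val] at this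
    exact Subtype.ext (Subtype.ext this)
  · intro c
    have hc : (⟨(c : Γ), C120_le c.2⟩ : ↥G) ∈ Subgroup.centralizer ({z'} : Set ↥G) := by
      rw [Subgroup.mem_centralizer_iff]
      intro y hy
      rw [Set.mem_singleton_iff] at hy
      subst hy
      apply Subtype.ext
      rw [Subgroup.coe_mul, Subgroup.coe_mul, z'_val, Subtype.coe_mk]
      exact (C120_comm c.1 c.2).symm
    have h' : (((⟨⟨(c : Γ), C120_le c.2⟩, hc⟩ : ↥(Subgroup.centralizer ({z'} : Set ↥G))) : ↥G) : Γ) =
        (c : Γ) := by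
      rw [Subtype.coe_mk, Subtype.coe_mk]
    exact ⟨⟨⟨(c : Γ), C120_le c.2⟩, hc⟩, Subtype.ext ((centHom_val _).trans h')⟩

noncomputable def centEquiv : ↥(Subgroup.centralizer ({z'} : Set ↥G)) ≃* ↥C120 :=
  MulEquiv.ofBijective centHom centHom_bijective

theorem cent_J1 : ∃ t : ↥G, orderOf t = 2 ∧ Nonempty (↥(Subgroup.centralizer ({t} : Set ↥G)) ≃*
    Multiplicative (ZMod 2) × ↥(alternatingGroup (Fin 5))) :=
  ⟨z', orderOf_z', ⟨centEquiv.trans centIso⟩⟩

end Cfsg.Agent.Lib.Helper3.J1
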