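import Mathlib
import Cfsg.Agent.Lib.Helper3.J1.EncN

set_option autoImplicit false

/-! Elements of `GL₇(11)` with given encodings; certified lists of encodings. -/

namespace Cfsg.Agent.Lib.Helper3.J1

/-- the ambient group -/
abbrev Γ := GL (Fin 7) (ZMod 11)

/-- `g` has the encoding `n` -/
def HasEnc (g : Γ) (n : ℕ) : Prop := encN (g : Matrix (Fin 7) (Fin 7) (ZMod 11)) = n

theorem HasEnc.mul {g h : Γ} {a b : ℕ} (hg : HasEnc g a) (hh : HasEnc h b) :
    HasEnc (g * h) (mulN a b) := by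
  unfold HasEnc at *
  rw [Units.val_mul, encN_mul, hg, hh]

theorem hasEnc_one : HasEnc 1 oneN := by
  unfold HasEnc
  rw [Units.val_one]
  exact encN_one

theorem HasEnc.inj {g h : Γ} {n : ℕ} (hg : HasEnc g n) (hh : HasEnc h n) : g = h := by
  apply Units.ext
  apply encN_injective
  rw [hg, hh]

theorem HasEnc.ne_zero {g : Γ} {n : ℕ} (hg : HasEnc g n) : n ≠ 0 := by
  intro h0
  subst h0
  have h1 : encN (g : Matrix (Fin 7) (Fin 7) (ZMod 11)) = encN 0 := by
    rw [hg]; decide +kernel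
  have h2 := encN_injective h1
  have h3 : (g : Matrix (Fin 7) (Fin 7) (ZMod 11)) * ((g⁻¹ : Γ) : Matrix (Fin 7) (Fin 7) (ZMod 11)) = 1 := by
    rw [← Units.val_mul, mul_inv_cancel, Units.val_one]
  rw [h2, zero_mul] at h3
  have h4 := congrFun (congrFun h3 0) 0
  rw [Matrix.zero_apply, Matrix.one_apply_eq] at h4
  revert h4
  decide

/-- transposition of encodings -/
def transposeN (n : ℕ) : ℕ :=
  h7 B7
    (h7 1024 (dg (rw7 n 0) 0) (dg (rw7 n 1) 0) (dg (rw7 n 2) 0) (dg (rw7 n 3) 0) (dg (rw7 n 4) 0) (dg (rw7 n 5) 0) (dg (rw7 n 6) 0))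
    (h7 1024 (dg (rw7 n 0) 1) (dg (rw7 n 1) 1) (dg (rw7 n 2) 1) (dg (rw7 n 3) 1) (dg (rw7 n 4) 1) (dg (rw7 n 5) 1) (dg (rw7 n 6) 1))
    (h7 1024 (dg (rw7 n 0) 2) (dg (rw7 n 1) 2) (dg (rw7 n 2) 2) (dg (rw7 n 3) 2) (dg (rw7 n 4) 2) (dg (rw7 n 5) 2) (dg (rw7 n 6) 2))
    (h7 1024 (dg (rw7 n 0) 3) (dg (rw7 n 1) 3) (dg (rw7 n 2) 3) (dg (rw7 n 3) 3) (dg (rw7 n 4) 3) (dg (rw7 n 5) 3) (dg (rw7 n 6) 3))
    (h7 1024 (dg (rw7 n 0) 4) (dg (rw7 n 1) 4) (dg (rw7 n 2) 4) (dg (rw7 n 3) 4) (dg (rw7 n 4) 4) (dg (rw7 n 5) 4) (dg (rw7 n 6) 4))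
    (h7 1024 (dg (rw7 n 0) 5) (dg (rw7 n 1) 5) (dg (rw7 n 2) 5) (dg (rw7 n 3) 5) (dg (rw7 n 4) 5) (dg (rw7 n 5) 5) (dg (rw7 n 6) 5))
    (h7 1024 (dg (rw7 n 0) 6) (dg (rw7 n 1) 6) (dg (rw7 n 2) 6) (dg (rw7 n 3) 6) (dg (rw7 n 4) 6) (dg (rw7 n 5) 6) (dg (rw7 n 6) 6))

theorem encN_transpose (A : Matrix (Fin 7) (Fin 7) (ZMod 11)) :
    encN A.transpose = transposeN (encN A) := by
  unfold transposeN
  simp only [rw7_encN, dg_rowN, List.getD_cons_zero, List.getD_cons_succ]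
  unfold encN rowN
  simp only [Matrix.transpose_apply]

/-- orthogonal elements -/
def IsOrth (g : Γ) : Prop :=
  ((g⁻¹ : Γ) : Matrix (Fin 7) (Fin 7) (ZMod 11)) = (g : Matrix (Fin 7) (Fin 7) (ZMod 11)).transpose

theorem IsOrth.one : IsOrth 1 := by
  unfold IsOrth
  simp

theorem IsOrth.mul {g h : Γ} (hg : IsOrth g) (hh : IsOrth h) : IsOrth (g * h) := by
  unfold IsOrth at *
  rw [mul_inv_rev, Units.val_mul, Units.val_mul, Matrix.transpose_mul, hg, hh]

theorem IsOrth.inv {g : Γ} (hg : IsOrth g) : IsOrth g⁻¹ := by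
  unfold IsOrth at *
  rw [inv_inv, hg, Matrix.transpose_transpose]

theorem IsOrth.hasEnc_inv {g : Γ} (hg : IsOrth g) {n : ℕ} (h : HasEnc g n) :
    HasEnc g⁻¹ (transposeN n) := by
  unfold HasEnc at *
  rw [hg, encN_transpose, h]

theorem isOrth_of_mem_closure {S : Set Γ} (hS : ∀ s ∈ S, IsOrth s) {g : Γ}
    (hg : g ∈ Subgroup.closure S) : IsOrth g := by
  induction hg using Subgroup.closure_induction with
  | mem x hx => exact hS x hx
  | one => exact IsOrth.one
  | mul x y _ _ hx hy => exact hx.mul hy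
  | inv x _ hx => exact hx.inv

/-- the encoding `n` belongs to an element of `G` -/
def SoundIn (G : Subgroup Γ) (n : ℕ) : Prop := ∃ g ∈ G, HasEnc g n

theorem SoundIn.mul {G : Subgroup Γ} {a b : ℕ} (ha : SoundIn G a) (hb : SoundIn G b) :
    SoundIn G (mulN a b) := by
  obtain ⟨g, hg, hga⟩ := ha
  obtain ⟨h, hh, hhb⟩ := hb
  exact ⟨g * h, G.mul_mem hg hh, hga.mul hhb⟩

theorem soundIn_one (G : Subgroup Γ) : SoundIn G oneN := ⟨1, G.one_mem, hasEnc_one⟩

/-- stack-based check of a depth-first listing of a Schreier tree: each entry `(p, g, v)` pops `p`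
elements of the stack and claims that `v` is the product of the generator number `g` with the
top of the stack -/
def treeChk (S : List ℕ) : List ℕ → List (ℕ × ℕ × ℕ) → Bool
  | _, [] => true
  | stk, (p, g, v) :: rest =>
    Nat.blt g S.length && Nat.beq v (mulN (S.getD g 0) ((stk.drop p).headD 0)) &&
      !(Nat.beq ((stk.drop p).headD 0) 0) && treeChk S (v :: stk.drop p) rest

theorem headD_mem {l : List ℕ} (h : l.headD 0 ≠ 0) : l.headD 0 ∈ l := by
  cases l with
  | nil => exact absurd rfl h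
  | cons a t => simp

theorem getD_mem {l : List ℕ} {i : ℕ} (h : i < l.length) : l.getD i 0 ∈ l := by
  rw [List.getD_eq_getElem _ _ h]
  exact List.getElem_mem h

theorem treeChk_sound {G : Subgroup Γ} {S : List ℕ} (hS : ∀ s ∈ S, SoundIn G s) :
    ∀ (entries : List (ℕ × ℕ × ℕ)) (stk : List ℕ), (∀ e ∈ stk, SoundIn G e) →
      treeChk S stk entries = true → ∀ e ∈ entries, SoundIn G e.2.2
  | [], _, _, _ => by simp
  | (p, g, v) :: rest, stk, hstk, h => by
    unfold treeChk at h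
    simp only [Bool.and_eq_true, Bool.not_eq_true', Nat.blt_eq] at h
    obtain ⟨⟨⟨h1, h2⟩, h3⟩, h4⟩ := h
    have hv : v = mulN (S.getD g 0) ((stk.drop p).headD 0) := Nat.eq_of_beq_eq_true h2
    have hne : (stk.drop p).headD 0 ≠ 0 := by
      intro hcon
      rw [hcon] at h3
      simp at h3
    have hpar : SoundIn G ((stk.drop p).headD 0) :=
      hstk _ (List.mem_of_mem_drop (headD_mem hne))
    have hvs : SoundIn G v := by
      rw [hv]
      exact (hS _ (getD_mem h1)).mul hpar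
    intro e he
    rw [List.mem_cons] at he
    rcases he with rfl | he
    · exact hvs
    · refine treeChk_sound hS rest (v :: stk.drop p) ?_ h4 e he
      intro e' he'
      rw [List.mem_cons] at he'
      rcases he' with rfl | he'
      · exact hvs
      · exact hstk _ (List.mem_of_mem_drop he')

/-- two-level lookup -/
def get2 (c : ℕ) (LL : List (List ℕ)) (j : ℕ) : ℕ := (LL.getD (j / c) []).getD (j % c) 0

theorem get2_mem {c : ℕ} {LL : List (List ℕ)} {j : ℕ} (h : get2 c LL j ≠ 0) :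
    get2 c LL j ∈ LL.flatten := by
  unfold get2 at *
  rw [List.mem_flatten]
  by_cases h1 : j / c < LL.length
  · refine ⟨LL.getD (j / c) [], getD_mem' h1, ?_⟩
    by_cases h2 : j % c < (LL.getD (j / c) []).length
    · exact getD_mem h2
    · have h3 : (LL.getD (j / c) []).getD (j % c) 0 = 0 :=
        List.getD_eq_default _ _ (not_lt.mp h2)
      exact absurd h3 h
  · have h3 : LL.getD (j / c) [] = [] := List.getD_eq_default _ _ (not_lt.mp h1)
    rw [h3] at h
    simp at h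
where
  getD_mem' {LL : List (List ℕ)} {i : ℕ} (h : i < LL.length) : LL.getD i [] ∈ LL := by
    rw [List.getD_eq_getElem _ _ h]
    exact List.getElem_mem h

end Cfsg.Agent.Lib.Helper3.J1
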