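import Mathlib
import Cfsg.Agent.Lib.Helper3.J1.Sound

set_option autoImplicit false

/-! Schreier-type covering: a two-generator subgroup of `GL₇(11)` is contained in the product of a
certified transversal with a subgroup. -/

namespace Cfsg.Agent.Lib.Helper3.J1

/-- the covering lemma -/
theorem cover {a b : Γ} {ea eb eai ebi : ℕ} (ha : HasEnc a ea) (hb : HasEnc b eb)
    (hai : HasEnc a⁻¹ eai) (hbi : HasEnc b⁻¹ ebi) (T : List ℕ) (H : Subgroup Γ) (HL : List ℕ)
    (hH : ∀ e ∈ HL, ∃ h ∈ H, HasEnc h e) (hT : ∀ e ∈ T, ∃ g : Γ, HasEnc g e) (h1 : oneN ∈ T)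
    (hcov : ∀ s ∈ [ea, eb, eai, ebi], ∀ t ∈ T, ∃ t' ∈ T, ∃ h ∈ HL, mulN s t = mulN t' h) :
    ∀ g ∈ Subgroup.closure ({a, b} : Set Γ),
      ∃ t ∈ T, ∃ tg : Γ, HasEnc tg t ∧ ∃ h ∈ H, g = tg * h := by
  have step : ∀ (σ : Γ) (es : ℕ), HasEnc σ es → es ∈ [ea, eb, eai, ebi] → ∀ y : Γ,
      (∃ t ∈ T, ∃ tg : Γ, HasEnc tg t ∧ ∃ h ∈ H, y = tg * h) →
      ∃ t ∈ T, ∃ tg : Γ, HasEnc tg t ∧ ∃ h ∈ H, σ * y = tg * h := by
    rintro σ es hσ hes y ⟨t, ht, tg, htg, h, hh, rfl⟩
    obtain ⟨t', ht', eh, heh, heq⟩ := hcov es hes t ht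
    obtain ⟨tg', htg'⟩ := hT t' ht'
    obtain ⟨h', hh', hh'e⟩ := hH eh heh
    have e1 : HasEnc (σ * tg) (mulN es t) := hσ.mul htg
    have e2 : HasEnc (tg' * h') (mulN t' eh) := htg'.mul hh'e
    rw [← heq] at e2
    have e3 : σ * tg = tg' * h' := e1.inj e2
    refine ⟨t', ht', tg', htg', h' * h, H.mul_mem hh' hh, ?_⟩
    rw [← mul_assoc, e3, mul_assoc]
  intro g hg
  induction hg using Subgroup.closure_induction_left with
  | one => exact ⟨oneN, h1, 1, hasEnc_one, 1, H.one_mem, by simp⟩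
  | mul_left x hx y _ ih =>
    rcases hx with rfl | hx
    · exact step _ ea ha (by simp) y ih
    · rw [Set.mem_singleton_iff] at hx
      subst hx
      exact step _ eb hb (by simp) y ih
  | inv_mul_cancel x hx y _ ih =>
    rcases hx with rfl | hx
    · exact step _ eai hai (by simp) y ih
    · rw [Set.mem_singleton_iff] at hx
      subst hx
      exact step _ ebi hbi (by simp) y ih

/-- check of the covering condition for one generator, with certificate indices -/
def coverChk (s cT cH : ℕ) (LL HH : List (List ℕ)) : List (ℕ × ℕ × ℕ) → Bool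
  | [] => true
  | (t, j, k) :: cs =>
    Nat.beq (mulN s t) (mulN (get2 cT LL j) (get2 cH HH k)) && !(Nat.beq (get2 cT LL j) 0) &&
      !(Nat.beq (get2 cH HH k) 0) && coverChk s cT cH LL HH cs

theorem coverChk_sound {s cT cH : ℕ} {LL HH : List (List ℕ)} :
    ∀ (cs : List (ℕ × ℕ × ℕ)), coverChk s cT cH LL HH cs = true →
      ∀ e ∈ cs, ∃ t' ∈ LL.flatten, ∃ h ∈ HH.flatten, mulN s e.1 = mulN t' h
  | [], _ => by simp
  | (t, j, k) :: cs, h => by
    unfold coverChk at h
    simp only [Bool.and_eq_true, Bool.not_eq_true'] at h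
    obtain ⟨⟨⟨h1, h2⟩, h3⟩, h4⟩ := h
    intro e he
    rw [List.mem_cons] at he
    rcases he with rfl | he
    · refine ⟨get2 cT LL j, get2_mem ?_, get2 cH HH k, get2_mem ?_, Nat.eq_of_beq_eq_true h1⟩
      · intro hcon; rw [hcon] at h2; simp at h2
      · intro hcon; rw [hcon] at h3; simp at h3
    · exact coverChk_sound cs h4 e he

/-- the covering check for a list of transversal encodings with a list of certificate indices -/
def coverChkZ (s cT cH : ℕ) (LL HH : List (List ℕ)) (cs : List (ℕ × ℕ)) : Bool :=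
  Nat.beq LL.flatten.length cs.length && coverChk s cT cH LL HH (LL.flatten.zip cs)

theorem coverChkZ_sound {s cT cH : ℕ} {LL HH : List (List ℕ)} {cs : List (ℕ × ℕ)}
    (h : coverChkZ s cT cH LL HH cs = true) :
    ∀ t ∈ LL.flatten, ∃ t' ∈ LL.flatten, ∃ h ∈ HH.flatten, mulN s t = mulN t' h := by
  unfold coverChkZ at h
  rw [Bool.and_eq_true] at h
  have hlen : LL.flatten.length = cs.length := Nat.eq_of_beq_eq_true h.1
  intro t ht
  obtain ⟨i, hi, rfl⟩ := List.getElem_of_mem ht
  have hi' : i < (LL.flatten.zip cs).length := by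
    rw [List.length_zip, ← hlen, Nat.min_self]; exact hi
  have hmem : (LL.flatten.zip cs)[i] ∈ LL.flatten.zip cs := List.getElem_mem hi'
  have := coverChk_sound _ h.2 _ hmem
  rw [List.getElem_zip] at this
  exact this

/-- membership test -/
def memN (L : List ℕ) (x : ℕ) : Bool := L.any (Nat.beq x)

theorem memN_sound {L : List ℕ} {x : ℕ} (h : memN L x = true) : x ∈ L := by
  unfold memN at h
  rw [List.any_eq_true] at h
  obtain ⟨y, hy, hxy⟩ := h
  rw [Nat.eq_of_beq_eq_true hxy]
  exact hy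

/-- the list is closed under left multiplication by the given encodings -/
def leftClosedChk (S L : List ℕ) : Bool := S.all fun s => L.all fun e => memN L (mulN s e)

theorem leftClosedChk_sound {S L : List ℕ} (h : leftClosedChk S L = true) :
    ∀ s ∈ S, ∀ t ∈ L, mulN s t ∈ L := by
  intro s hs t ht
  unfold leftClosedChk at h
  rw [List.all_eq_true] at h
  have h1 := h s hs
  rw [List.all_eq_true] at h1
  exact memN_sound (h1 t ht)

/-- the covering lemma with trivial subgroup: a list of encodings closed under left multiplication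
by the generators and their inverses contains the encodings of all elements of the subgroup -/
theorem cover0 {a b : Γ} {ea eb eai ebi : ℕ} (ha : HasEnc a ea) (hb : HasEnc b eb)
    (hai : HasEnc a⁻¹ eai) (hbi : HasEnc b⁻¹ ebi) (T : List ℕ) (h1 : oneN ∈ T)
    (hcov : ∀ s ∈ [ea, eb, eai, ebi], ∀ t ∈ T, mulN s t ∈ T) :
    ∀ g ∈ Subgroup.closure ({a, b} : Set Γ), ∃ t ∈ T, HasEnc g t := by
  have step : ∀ (σ : Γ) (es : ℕ), HasEnc σ es → es ∈ [ea, eb, eai, ebi] → ∀ y : Γ,
      (∃ t ∈ T, HasEnc y t) → ∃ t ∈ T, HasEnc (σ * y) t := by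
    rintro σ es hσ hes y ⟨t, ht, hyt⟩
    exact ⟨mulN es t, hcov es hes t ht, hσ.mul hyt⟩
  intro g hg
  induction hg using Subgroup.closure_induction_left with
  | one => exact ⟨oneN, h1, hasEnc_one⟩
  | mul_left x hx y _ ih =>
    rcases hx with rfl | hx
    · exact step _ ea ha (by simp) y ih
    · rw [Set.mem_singleton_iff] at hx
      subst hx
      exact step _ eb hb (by simp) y ih
  | inv_mul_cancel x hx y _ ih =>
    rcases hx with rfl | hx
    · exact step _ eai hai (by simp) y ih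
    · rw [Set.mem_singleton_iff] at hx
      subst hx
      exact step _ ebi hbi (by simp) y ih

end Cfsg.Agent.Lib.Helper3.J1
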