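import Mathlib
import Cfsg.Agent.Lib.Helper3.J1.Order

set_option autoImplicit false

/-! The group `J1` is simple. -/

namespace Cfsg.Agent.Lib.Helper3.J1

open Cfsg Cfsg.Spor

/-- bounded universal quantifier -/
def allB (n : ℕ) (f : ℕ → Bool) : Bool := Nat.rec true (fun k ih => ih && f k) n

theorem allB_iff (n : ℕ) (f : ℕ → Bool) : allB n f = true ↔ ∀ k < n, f k = true := by
  induction n with
  | zero => simp [allB]
  | succ n ih =>
    have : allB (n + 1) f = (allB n f && f n) := rfl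
    rw [this, Bool.and_eq_true, ih]
    constructor
    · rintro ⟨h1, h2⟩ k hk
      rcases Nat.lt_succ_iff_lt_or_eq.mp hk with h | rfl
      · exact h1 k h
      · exact h2
    · intro h
      exact ⟨fun k hk => h k (Nat.lt_succ_of_lt hk), h n (Nat.lt_succ_self n)⟩

/-- the representatives of the nontrivial suborbits -/
def RL : List ℕ := RI.map (fun i => get2 40 LL i)

theorem cert_RL : (RL.all fun r => !(Nat.beq r 0)) = true ∧ RL.length = 18 := by decide +kernel

theorem RL_sub : ∀ r ∈ RL, r ∈ TL := by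
  intro r hr
  have h := cert_RL.1
  rw [List.all_eq_true] at h
  have h1 := h r hr
  unfold RL at hr
  rw [List.mem_map] at hr
  obtain ⟨i, -, rfl⟩ := hr
  apply get2_mem
  intro hcon
  rw [hcon] at h1
  simp at h1

/-- check of the double coset certificates -/
def dcChk : List (ℕ × ℕ × ℕ × ℕ) → Bool
  | [] => true
  | (t, a, i, b) :: rest =>
    Nat.beq t (mulN (mulN (HL.getD a 0) (RL.getD i 0)) (HL.getD b 0)) && Nat.blt a HL.length &&
      Nat.blt i RL.length && Nat.blt b HL.length && dcChk rest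

theorem dcChk_sound : ∀ (L : List (ℕ × ℕ × ℕ × ℕ)), dcChk L = true →
    ∀ e ∈ L, ∃ a ∈ HL, ∃ r ∈ RL, ∃ b ∈ HL, e.1 = mulN (mulN a r) b
  | [], _ => by simp
  | (t, a, i, b) :: rest, h => by
    unfold dcChk at h
    simp only [Bool.and_eq_true, Nat.blt_eq] at h
    obtain ⟨⟨⟨⟨h1, h2⟩, h3⟩, h4⟩, h5⟩ := h
    intro e he
    rw [List.mem_cons] at he
    rcases he with rfl | he
    · exact ⟨_, getD_mem h2, _, getD_mem h3, _, getD_mem h4, Nat.eq_of_beq_eq_true h1⟩
    · exact dcChk_sound rest h5 e he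

set_option maxRecDepth 1000000 in
theorem cert_DC : (Nat.beq TL.tail.length DC.length && dcChk (TL.tail.zip DC)) = true := by
  decide +kernel

theorem mem_zip_of_length_eq' {α β : Type*} : ∀ {A : List α} {B : List β}, A.length = B.length →
    ∀ a ∈ A, ∃ b, (a, b) ∈ A.zip B
  | [], [], _, a, ha => by simp at ha
  | [], _ :: _, h, _, _ => by simp at h
  | _ :: _, [], h, _, _ => by simp at h
  | a' :: A, b :: B, h, a, ha => by
    rw [List.mem_cons] at ha
    rcases ha with rfl | ha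
    · exact ⟨b, by simp⟩
    · have hlen : A.length = B.length := by simpa using h
      obtain ⟨b', hb'⟩ := mem_zip_of_length_eq' hlen a ha
      exact ⟨b', by simp [hb']⟩

theorem TL_dc : ∀ t ∈ TL, t = oneN ∨ ∃ a ∈ HL, ∃ r ∈ RL, ∃ b ∈ HL, t = mulN (mulN a r) b := by
  have h := cert_DC
  rw [Bool.and_eq_true] at h
  intro t ht
  rw [TL_eq, List.mem_cons] at ht
  rcases ht with rfl | ht
  · exact Or.inl rfl
  · right
    obtain ⟨c, hc⟩ := mem_zip_of_length_eq' (Nat.eq_of_beq_eq_true h.1) t ht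
    exact dcChk_sound _ h.2 (t, c) hc

/-- a representative or its transpose -/
def flip (e r : ℕ) : ℕ := if Nat.beq e 0 then r else transposeN r

/-- check of the cycle certificates -/
def ecChk (i : ℕ) (c : ℕ × ℕ × ℕ × ℕ × ℕ) : Bool :=
  Nat.beq (RL.getD ((i + 1) % 18) 0)
    (mulN (mulN (mulN (mulN (HL.getD c.1 0) (flip c.2.1 (RL.getD i 0))) (HL.getD c.2.2.1 0))
      (flip c.2.2.2.1 (RL.getD i 0))) (HL.getD c.2.2.2.2 0)) &&
    Nat.blt c.1 HL.length && Nat.blt c.2.2.1 HL.length && Nat.blt c.2.2.2.2 HL.length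

set_option maxRecDepth 1000000 in
theorem cert_EC : allB 18 (fun i => ecChk i (EC.getD i (0, 0, 0, 0, 0))) = true := by
  decide +kernel

theorem SoundIn.flip {K : Subgroup Γ} (hK : K ≤ G) {r : ℕ} (h : SoundIn K r) (e : ℕ) :
    SoundIn K (flip e r) := by
  unfold J1.flip
  split_ifs
  · exact h
  · exact h.transpose hK

/-- one step along the cycle -/
theorem cycle_step {K : Subgroup Γ} (hK : K ≤ G) (hH : ∀ h ∈ HL, SoundIn K h) {i : ℕ} (hi : i < 18)
    (h : SoundIn K (RL.getD i 0)) : SoundIn K (RL.getD ((i + 1) % 18) 0) := by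
  have hc := (allB_iff _ _).mp cert_EC i hi
  unfold ecChk at hc
  simp only [Bool.and_eq_true, Nat.blt_eq] at hc
  obtain ⟨⟨⟨h1, h2⟩, h3⟩, h4⟩ := hc
  rw [Nat.eq_of_beq_eq_true h1]
  exact ((((hH _ (getD_mem h2)).mul (h.flip hK _)).mul (hH _ (getD_mem h3))).mul (h.flip hK _)).mul
    (hH _ (getD_mem h4))

theorem cycle_all {K : Subgroup Γ} (hK : K ≤ G) (hH : ∀ h ∈ HL, SoundIn K h) {i : ℕ} (hi : i < 18)
    (h : SoundIn K (RL.getD i 0)) : ∀ r ∈ RL, SoundIn K r := by
  have key : ∀ k : ℕ, SoundIn K (RL.getD ((i + k) % 18) 0) := by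
    intro k
    induction k with
    | zero => rw [Nat.add_zero, Nat.mod_eq_of_lt hi]; exact h
    | succ k ih =>
      have := cycle_step hK hH (Nat.mod_lt _ (by norm_num)) ih
      rwa [Nat.mod_add_mod, Nat.add_assoc] at this
  intro r hr
  obtain ⟨j, hj, rfl⟩ := List.getElem_of_mem hr
  rw [cert_RL.2] at hj
  have := key (j + 18 - i)
  have e : (i + (j + 18 - i)) % 18 = j := by omega
  rw [e, List.getD_eq_getElem _ _ (by rw [cert_RL.2]; exact hj)] at this
  exact this

/-- maximality of the point stabilizer -/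
theorem H_maximal {K : Subgroup Γ} (hHK : H ≤ K) (hK : K ≤ G) {k : Γ} (hk : k ∈ K) (hkH : k ∉ H) :
    K = G := by
  apply le_antisymm hK
  have hH : ∀ h ∈ HL, SoundIn K h := by
    intro h hh
    obtain ⟨g, hg, hgh⟩ := H_facts.1 h hh
    exact ⟨g, hHK hg, hgh⟩
  -- a representative lies in `K`
  obtain ⟨t, ht, tg, htg, h, hh, hkt⟩ := G_cover k (hK hk)
  have htgK : tg ∈ K := by
    have : tg = k * h⁻¹ := by rw [hkt]; group
    rw [this]
    exact K.mul_mem hk (K.inv_mem (hHK hh))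
  have hrep : ∃ i < 18, SoundIn K (RL.getD i 0) := by
    rcases TL_dc t ht with rfl | ⟨a, ha, r, hr, b, hb, rfl⟩
    · exfalso
      apply hkH
      have : tg = 1 := htg.inj hasEnc_one
      rw [hkt, this, one_mul]
      exact hh
    · obtain ⟨ag, hag, haga⟩ := H_facts.1 a ha
      obtain ⟨bg, hbg, hbgb⟩ := H_facts.1 b hb
      obtain ⟨rg, -, hrgr⟩ := TL_sound r (RL_sub r hr)
      have e1 : tg = ag * rg * bg := htg.inj ((haga.mul hrgr).mul hbgb)
      have e2 : rg = ag⁻¹ * tg * bg⁻¹ := by rw [e1]; group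
      have hrgK : rg ∈ K := by
        rw [e2]
        exact K.mul_mem (K.mul_mem (K.inv_mem (hHK hag)) htgK) (K.inv_mem (hHK hbg))
      obtain ⟨i, hi, rfl⟩ := List.getElem_of_mem hr
      refine ⟨i, by rw [← cert_RL.2]; exact hi, ?_⟩
      rw [List.getD_eq_getElem _ _ hi]
      exact ⟨rg, hrgK, hrgr⟩
  obtain ⟨i, hi, hsi⟩ := hrep
  have hall := cycle_all hK hH hi hsi
  -- all transversal elements lie in `K`
  have hT : ∀ t ∈ TL, SoundIn K t := by
    intro t ht
    rcases TL_dc t ht with rfl | ⟨a, ha, r, hr, b, hb, rfl⟩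
    · exact soundIn_one K
    · exact ((hH a ha).mul (hall r hr)).mul (hH b hb)
  intro g hg
  obtain ⟨t, ht, tg, htg, h, hh, rfl⟩ := G_cover g hg
  obtain ⟨tg', htg'K, htg'⟩ := hT t ht
  rw [htg.inj htg']
  exact K.mul_mem htg'K (hHK hh)

end Cfsg.Agent.Lib.Helper3.J1
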