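import Mathlib
import Cfsg.Prelude.Def_KGroupFacts
import Cfsg.Agent.Lib.Helper3.J1.Cent
import Cfsg.Agent.Lib.Helper3.J1.Simple
import Cfsg.Agent.Lib.Helper3.OutAut.Basic

set_option autoImplicit false

/-! Every automorphism of `J1` is inner. -/

namespace Cfsg.Agent.Lib.Helper3.J1

open Cfsg Cfsg.Spor
open Cfsg.Agent.Lib.Helper3.OutAut

theorem uG_memH : uG ∈ H := Subgroup.subset_closure (by simp)
theorem vG_memH : vG ∈ H := Subgroup.subset_closure (by simp)

-- the element of order 11 fixes only the base point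
set_option maxRecDepth 1000000 in
theorem cert_fixU : (TL.all fun t => Nat.beq t oneN ||
    !(memN HL (mulN (mulN (transposeN t) eU) t))) = true := by
  decide +kernel

/-- the centralizer of `u` lies in the point stabilizer -/
theorem cent_u {g : Γ} (hg : g ∈ G) (hc : g * uG = uG * g) : g ∈ H := by
  obtain ⟨t, ht, tg, htgG, htg, eh, heh, h, hh, hhe, rfl⟩ := G_cover' hg
  have h1 : tg⁻¹ * uG * tg = h * uG * h⁻¹ := by
    have : tg * h * uG = uG * (tg * h) := hc
    calc tg⁻¹ * uG * tg = tg⁻¹ * (uG * (tg * h)) * h⁻¹ := by group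
      _ = tg⁻¹ * (tg * h * uG) * h⁻¹ := by rw [this]
      _ = h * uG * h⁻¹ := by group
  have h2 : tg⁻¹ * uG * tg ∈ H := by
    rw [h1]
    exact H.mul_mem (H.mul_mem hh uG_memH) (H.inv_mem hh)
  obtain ⟨e', he', hee'⟩ := H_facts.2.1 _ h2
  have h3 : HasEnc (tg⁻¹ * uG * tg) (mulN (mulN (transposeN t) eU) t) :=
    (((isOrth_of_mem htgG).hasEnc_inv htg).mul hasEnc_uG).mul htg
  have h4 : mulN (mulN (transposeN t) eU) t = e' := h3.symm.trans hee'
  have c1 := cert_fixU
  rw [List.all_eq_true] at c1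
  have c2 := c1 t ht
  rw [h4, memN_complete he', Bool.not_true, Bool.or_false] at c2
  have ht1 : t = oneN := Nat.eq_of_beq_eq_true c2
  rw [ht1] at htg
  have : tg = 1 := htg.inj hasEnc_one
  rw [this, one_mul]
  exact hh

theorem cert_small : (Nat.beq (powN eU 11) oneN && !(Nat.beq eU oneN) &&
    Nat.beq (mulN (mulN eV eU) (transposeN eV)) (powN eU kU) && Nat.beq kU 7) = true := by
  decide +kernel

set_option maxRecDepth 100000 in
theorem cert_HV : (HL.all fun h => !(Nat.beq (mulN (mulN h eU) (transposeN h)) (powN eU kU)) ||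
    (List.range 11).any (fun j => Nat.beq h
      (mulN (mulN (powN eU j) eV) (transposeN (powN eU j))))) = true := by
  decide +kernel

set_option maxRecDepth 100000 in
theorem cert_rel : (CL.all fun c => Nat.beq c eR || !(Nat.beq (mulN c c) oneN &&
    Nat.beq (powN (mulN c eV) 2) oneN && Nat.beq (powN (mulN eU c) 11) oneN)) = true := by
  decide +kernel

theorem cert_relR : (Nat.beq (mulN eR eR) oneN && Nat.beq (powN (mulN eR eV) 2) oneN &&
    Nat.beq (powN (mulN eU eR) 11) oneN && !(memN HL eR) &&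
    Nat.beq (mulN eR eZ) (mulN eZ eR)) = true := by
  decide +kernel

theorem factorization_eq_one' {n p m : ℕ} (hp : p.Prime) (hn : n = p * m) (hm : ¬ p ∣ m)
    (hm0 : m ≠ 0) : n.factorization p = 1 := by
  rw [hn, Nat.factorization_mul hp.ne_zero hm0, Finsupp.add_apply, hp.factorization_self,
    Nat.factorization_eq_zero_of_not_dvd hm]

/-- the generators as elements of the group -/
noncomputable def u' : ↥G := ⟨uG, uG_mem⟩
noncomputable def v' : ↥G := ⟨vG, vG_mem⟩
noncomputable def r' : ↥G := ⟨rG, rG_mem⟩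

theorem orderOf_u' : orderOf u' = 11 := by
  have hc := cert_small
  simp only [Bool.and_eq_true, Bool.not_eq_true'] at hc
  obtain ⟨⟨⟨h1, h2⟩, -⟩, -⟩ := hc
  have := orderOf_of_cert (by norm_num : Nat.Prime 11) hasEnc_uG (Nat.eq_of_beq_eq_true h1)
    (by intro h; rw [h] at h2; simp at h2)
  exact (Subgroup.orderOf_mk uG uG_mem).trans this

theorem conj_vu : v' * u' * v'⁻¹ = u' ^ 7 := by
  have hc := cert_small
  simp only [Bool.and_eq_true, Bool.not_eq_true'] at hc
  obtain ⟨⟨-, h3⟩, h4⟩ := hc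
  apply Subtype.ext
  show vG * uG * vG⁻¹ = uG ^ 7
  have e1 : HasEnc (vG * uG * vG⁻¹) (mulN (mulN eV eU) (transposeN eV)) :=
    (hasEnc_vG.mul hasEnc_uG).mul ((isOrth_of_mem vG_mem).hasEnc_inv hasEnc_vG)
  rw [Nat.eq_of_beq_eq_true h3, Nat.eq_of_beq_eq_true h4] at e1
  exact e1.inj (hasEnc_uG.pow 7)

instance : Finite ↥G := Nat.finite_of_card_ne_zero (by rw [card_G]; norm_num)

theorem prim_root (m : ℕ) (hm : m < 11) (hm0 : m ≠ 0) : ∃ j, 7 ^ j % 11 = m := by
  interval_cases m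
  · exact absurd rfl hm0
  · exact ⟨0, by norm_num⟩
  · exact ⟨3, by norm_num⟩
  · exact ⟨4, by norm_num⟩
  · exact ⟨6, by norm_num⟩
  · exact ⟨2, by norm_num⟩
  · exact ⟨7, by norm_num⟩
  · exact ⟨1, by norm_num⟩
  · exact ⟨9, by norm_num⟩
  · exact ⟨8, by norm_num⟩
  · exact ⟨5, by norm_num⟩

/-- step 1: after an inner automorphism, `u` is fixed -/
theorem fix_u (φ : MulAut ↥G) : ∃ g : ↥G, φ u' = g * u' * g⁻¹ := by
  haveI : Fact (Nat.Prime 11) := ⟨by norm_num⟩
  have hfac : (Nat.card ↥G).factorization 11 = 1 :=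
    factorization_eq_one' (by norm_num) (card_G.trans (by norm_num : 175560 = 11 * 15960))
      (by norm_num) (by norm_num)
  obtain ⟨g, m, hgm⟩ := exists_conj_pow hfac orderOf_u' φ
  have hmod : u' ^ m = u' ^ (m % 11) := by
    have := pow_mod_orderOf u' m
    rw [orderOf_u'] at this
    exact this.symm
  have hne : m % 11 ≠ 0 := by
    intro h0
    rw [hmod, h0, pow_zero] at hgm
    have : φ u' = 1 := by rw [hgm]; group
    have h1 : u' = 1 := by
      have := congrArg φ.symm this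
      simpa using this
    have := orderOf_u'
    rw [h1, orderOf_one] at this
    omega
  obtain ⟨j, hj⟩ := prim_root (m % 11) (Nat.mod_lt _ (by norm_num)) hne
  have hcj := conj_pow_iter conj_vu j
  refine ⟨g * v' ^ j, ?_⟩
  have : u' ^ (m % 11) = u' ^ (7 ^ j) := by
    have := pow_mod_orderOf u' (7 ^ j)
    rw [orderOf_u', hj] at this
    exact this
  rw [hgm, hmod, this, ← hcj]; group

/-- step 2: an automorphism fixing `u` fixes `v` after conjugation by a power of `u` -/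
theorem fix_v (ψ : MulAut ↥G) (hu : ψ u' = u') : ∃ j : ℕ, ψ v' = u' ^ j * v' * (u' ^ j)⁻¹ := by
  have h1 : ψ v' * u' * (ψ v')⁻¹ = v' * u' * v'⁻¹ := by
    have := congrArg ψ conj_vu
    rw [map_mul, map_mul, map_inv, map_pow, hu] at this
    rw [this, conj_vu]
  have h2 : (v'⁻¹ * ψ v') * u' = u' * (v'⁻¹ * ψ v') := by
    calc (v'⁻¹ * ψ v') * u' = v'⁻¹ * (ψ v' * u' * (ψ v')⁻¹) * ψ v' := by group
      _ = v'⁻¹ * (v' * u' * v'⁻¹) * ψ v' := by rw [h1]
      _ = u' * (v'⁻¹ * ψ v') := by group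
  have h3 : ((v'⁻¹ * ψ v' : ↥G) : Γ) ∈ H := by
    apply cent_u (v'⁻¹ * ψ v' : ↥G).2
    exact congrArg Subtype.val h2
  have h4 : ((ψ v' : ↥G) : Γ) ∈ H := by
    have : ((ψ v' : ↥G) : Γ) = vG * ((v'⁻¹ * ψ v' : ↥G) : Γ) := by
      show _ = vG * (vG⁻¹ * _)
      group
    rw [this]
    exact H.mul_mem vG_memH h3
  obtain ⟨e, he, hee⟩ := H_facts.2.1 _ h4
  have hc := cert_small
  simp only [Bool.and_eq_true, Bool.not_eq_true'] at hc
  obtain ⟨⟨-, h5⟩, h6⟩ := hc
  have e1 : HasEnc (((ψ v' : ↥G) : Γ) * uG * ((ψ v' : ↥G) : Γ)⁻¹) (mulN (mulN e eU) (transposeN e)) :=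
    (hee.mul hasEnc_uG).mul ((isOrth_of_mem (ψ v').2).hasEnc_inv hee)
  have e2 : HasEnc (vG * uG * vG⁻¹) (mulN (mulN eV eU) (transposeN eV)) :=
    (hasEnc_vG.mul hasEnc_uG).mul ((isOrth_of_mem vG_mem).hasEnc_inv hasEnc_vG)
  have e3 : ((ψ v' : ↥G) : Γ) * uG * ((ψ v' : ↥G) : Γ)⁻¹ = vG * uG * vG⁻¹ :=
    congrArg Subtype.val h1
  rw [e3] at e1
  have e4 : mulN (mulN e eU) (transposeN e) = powN eU kU := by
    rw [e1.symm.trans e2]; exact Nat.eq_of_beq_eq_true h5
  have c1 := cert_HV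
  rw [List.all_eq_true] at c1
  have c2 := c1 e he
  rw [e4, Nat.beq_refl, Bool.not_true, Bool.false_or, List.any_eq_true] at c2
  obtain ⟨j, -, hj⟩ := c2
  refine ⟨j, ?_⟩
  apply Subtype.ext
  show ((ψ v' : ↥G) : Γ) = uG ^ j * vG * (uG ^ j)⁻¹
  have e5 : HasEnc (uG ^ j * vG * (uG ^ j)⁻¹) (mulN (mulN (powN eU j) eV) (transposeN (powN eU j))) :=
    ((hasEnc_uG.pow j).mul hasEnc_vG).mul
      ((isOrth_of_mem (G.pow_mem uG_mem j)).hasEnc_inv (hasEnc_uG.pow j))
  rw [← Nat.eq_of_beq_eq_true hj] at e5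
  exact hee.inj e5

theorem closure_uvr : Subgroup.closure ({u', v', r'} : Set ↥G) = ⊤ := by
  have hc := cert_relR
  simp only [Bool.and_eq_true, Bool.not_eq_true'] at hc
  obtain ⟨⟨⟨-, -⟩, hr⟩, -⟩ := hc
  have hrH : rG ∉ H := by
    intro h
    obtain ⟨e, he, hee⟩ := H_facts.2.1 _ h
    have : e = eR := hee.symm.trans hasEnc_rG
    rw [this] at he
    rw [memN_complete he] at hr
    exact absurd hr (by simp)
  set K : Subgroup Γ := Subgroup.closure ({uG, vG, rG} : Set Γ) with hK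
  have hHK : H ≤ K := by
    rw [H, Subgroup.closure_le]
    intro s hs
    rcases hs with rfl | hs
    · exact Subgroup.subset_closure (by simp)
    · rw [Set.mem_singleton_iff] at hs
      subst hs
      exact Subgroup.subset_closure (by simp)
  have hKG : K ≤ G := by
    rw [hK, Subgroup.closure_le]
    intro s hs
    rcases hs with rfl | rfl | rfl
    · exact uG_mem
    · exact vG_mem
    · exact rG_mem
  have hKeq : K = G := H_maximal hHK hKG (Subgroup.subset_closure (by simp)) hrH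
  apply Subgroup.map_injective G.subtype_injective
  rw [MonoidHom.map_closure, ← MonoidHom.range_eq_map, Subgroup.range_subtype]
  have himg : (G.subtype '' ({u', v', r'} : Set ↥G)) = ({uG, vG, rG} : Set Γ) := by
    ext x
    simp only [Set.mem_image, Set.mem_insert_iff, Set.mem_singleton_iff]
    constructor
    · rintro ⟨y, hy | hy | hy, rfl⟩
      · left; rw [hy]; rfl
      · right; left; rw [hy]; rfl
      · right; right; rw [hy]; rfl
    · rintro (rfl | rfl | rfl)
      · exact ⟨u', Or.inl rfl, rfl⟩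
      · exact ⟨v', Or.inr (Or.inl rfl), rfl⟩
      · exact ⟨r', Or.inr (Or.inr rfl), rfl⟩
  rw [himg]
  exact hKeq

/-- step 3: an automorphism fixing `u` and `v` is trivial -/
theorem rigid (ψ : MulAut ↥G) (hu : ψ u' = u') (hv : ψ v' = v') : ψ = 1 := by
  have hc := cert_relR
  simp only [Bool.and_eq_true, Bool.not_eq_true'] at hc
  obtain ⟨⟨⟨⟨r1, r2⟩, r3⟩, -⟩, r5⟩ := hc
  -- relations of `r`
  have hr1 : r' * r' = 1 := by
    apply Subtype.ext
    show rG * rG = 1
    have e := hasEnc_rG.mul hasEnc_rG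
    rw [Nat.eq_of_beq_eq_true r1] at e
    exact e.inj hasEnc_one
  have hr2 : (r' * v') ^ 2 = 1 := by
    apply Subtype.ext
    show (rG * vG) ^ 2 = 1
    have e := (hasEnc_rG.mul hasEnc_vG).pow 2
    rw [Nat.eq_of_beq_eq_true r2] at e
    exact e.inj hasEnc_one
  have hr3 : (u' * r') ^ 11 = 1 := by
    apply Subtype.ext
    show (uG * rG) ^ 11 = 1
    have e := (hasEnc_uG.mul hasEnc_rG).pow 11
    rw [Nat.eq_of_beq_eq_true r3] at e
    exact e.inj hasEnc_one
  have hr5 : r' * v' ^ 5 = v' ^ 5 * r' := by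
    apply Subtype.ext
    show rG * vG ^ 5 = vG ^ 5 * rG
    have e := hasEnc_rG.mul hasEnc_zG
    rw [Nat.eq_of_beq_eq_true r5] at e
    exact e.inj (hasEnc_zG.mul hasEnc_rG)
  -- their images
  have i1 : ψ r' * ψ r' = 1 := by rw [← map_mul, hr1, map_one]
  have i2 : (ψ r' * v') ^ 2 = 1 := by
    have := congrArg ψ hr2
    rwa [map_pow, map_mul, hv, map_one] at this
  have i3 : (u' * ψ r') ^ 11 = 1 := by
    have := congrArg ψ hr3
    rwa [map_pow, map_mul, hu, map_one] at this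
  have i5 : ψ r' * v' ^ 5 = v' ^ 5 * ψ r' := by
    have := congrArg ψ hr5
    rwa [map_mul, map_mul, map_pow, hv] at this
  obtain ⟨e, he, hee⟩ := cent_list (ψ r').2 (congrArg Subtype.val i5)
  have j1 : mulN e e = oneN := by
    have := hee.mul hee
    have h1 : ((ψ r' : ↥G) : Γ) * ((ψ r' : ↥G) : Γ) = 1 := congrArg Subtype.val i1
    rw [h1] at this
    exact this.symm.trans hasEnc_one
  have j2 : powN (mulN e eV) 2 = oneN := by
    have := (hee.mul hasEnc_vG).pow 2
    have h1 : (((ψ r' : ↥G) : Γ) * vG) ^ 2 = 1 := congrArg Subtype.val i2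
    rw [h1] at this
    exact this.symm.trans hasEnc_one
  have j3 : powN (mulN eU e) 11 = oneN := by
    have := (hasEnc_uG.mul hee).pow 11
    have h1 : (uG * ((ψ r' : ↥G) : Γ)) ^ 11 = 1 := congrArg Subtype.val i3
    rw [h1] at this
    exact this.symm.trans hasEnc_one
  have c1 := cert_rel
  rw [List.all_eq_true] at c1
  have c2 := c1 e he
  rw [j1, j2, j3, Nat.beq_refl] at c2
  simp only [Bool.and_self, Bool.not_true, Bool.or_false] at c2
  have hre : e = eR := Nat.eq_of_beq_eq_true c2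
  have hr : ψ r' = r' := by
    apply Subtype.ext
    rw [hre] at hee
    exact hee.inj hasEnc_rG
  have := mulAut_eq_conj closure_uvr ψ 1 (by
    intro s hs
    rcases hs with rfl | rfl | rfl
    · rw [hu]; group
    · rw [hv]; group
    · rw [hr]; group)
  rw [this, map_one]

theorem aut_inner (φ : MulAut ↥G) : ∃ g : ↥G, φ = MulAut.conj g := by
  obtain ⟨g₁, h1⟩ := fix_u φ
  set ψ : MulAut ↥G := (MulAut.conj g₁)⁻¹ * φ with hψ
  have hu : ψ u' = u' := by
    rw [hψ, MulAut.mul_apply, h1, MulAut.conj_inv_apply]; group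
  obtain ⟨j, h2⟩ := fix_v ψ hu
  set ψ₂ : MulAut ↥G := (MulAut.conj (u' ^ j))⁻¹ * ψ with hψ₂
  have hu2 : ψ₂ u' = u' := by
    rw [hψ₂, MulAut.mul_apply, hu, MulAut.conj_inv_apply]
    have : u' * u' ^ j = u' ^ j * u' := (Commute.pow_right (Commute.refl u') j).eq
    rw [mul_assoc, this, inv_mul_cancel_left]
  have hv2 : ψ₂ v' = v' := by
    rw [hψ₂, MulAut.mul_apply, h2, MulAut.conj_inv_apply]; group
  have h3 := rigid ψ₂ hu2 hv2
  refine ⟨g₁ * u' ^ j, ?_⟩
  have : φ = MulAut.conj g₁ * (MulAut.conj (u' ^ j) * ψ₂) := by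
    rw [hψ₂, hψ]; group
  rw [this, h3, mul_one, ← map_mul]

theorem card_out_J1 : Nat.card (Cfsg.Out ↥G) = 1 := card_out_eq_one aut_inner

end Cfsg.Agent.Lib.Helper3.J1
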