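import Mathlib
import Cfsg.Prelude.Def_KGroupFacts
import Cfsg.Agent.Lib.Helper3.J1.Order
import Cfsg.Agent.Lib.Helper3.Schur.Frob

set_option autoImplicit false

/-! The Schur multiplier of `J1` is trivial. -/

namespace Cfsg.Agent.Lib.Helper3.J1

open Cfsg Cfsg.Spor Subgroup
open Cfsg.Agent.Lib.Helper3.SchurM

theorem not_dvd_index' {G : Type*} [Group G] {n p q : ℕ} (hG : Nat.card G = n)
    (P : Subgroup G) (hq : q ∣ Nat.card P) (hn : ¬ p * q ∣ n) : ¬ p ∣ P.index := by
  intro hp
  apply hn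
  rw [← hG, ← P.card_mul_index, mul_comm p q]
  exact mul_dvd_mul hq hp

theorem prime_dvd_175560 {p : ℕ} (hp : p.Prime) (h : p ∣ 175560) :
    p = 2 ∨ p = 3 ∨ p = 5 ∨ p = 7 ∨ p = 11 ∨ p = 19 := by
  have e : (175560 : ℕ) = 2 ^ 3 * (3 * (5 * (7 * (11 * 19)))) := by norm_num
  rw [e] at h
  rcases hp.dvd_mul.mp h with h | h
  · left; exact (Nat.prime_dvd_prime_iff_eq hp Nat.prime_two).mp (hp.dvd_of_dvd_pow h)
  rcases hp.dvd_mul.mp h with h | h
  · right; left; exact (Nat.prime_dvd_prime_iff_eq hp Nat.prime_three).mp h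
  rcases hp.dvd_mul.mp h with h | h
  · right; right; left; exact (Nat.prime_dvd_prime_iff_eq hp Nat.prime_five).mp h
  rcases hp.dvd_mul.mp h with h | h
  · right; right; right; left; exact (Nat.prime_dvd_prime_iff_eq hp (by norm_num)).mp h
  rcases hp.dvd_mul.mp h with h | h
  · right; right; right; right; left; exact (Nat.prime_dvd_prime_iff_eq hp (by norm_num)).mp h
  · right; right; right; right; right; exact (Nat.prime_dvd_prime_iff_eq hp (by norm_num)).mp h

/-- conjugates of `a` under the inverse of `X` -/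
def eB1 : ℕ := mulN (mulN eXi eA) eX
def eB2 : ℕ := mulN (mulN eXi eB1) eX
def eB3 : ℕ := mulN (mulN eXi eB2) eX

theorem cert_frob : (Nat.beq (mulN eA eB1) (mulN eB1 eA) && Nat.beq (mulN eA eB2) (mulN eB2 eA) &&
    Nat.beq eB3 (mulN eA eB1)) = true := by decide +kernel

theorem cert_orders2 : (Nat.beq (powN eU 11) oneN && !(Nat.beq eU oneN) &&
    Nat.beq (powN (powN eV 2) 5) oneN && !(Nat.beq (powN eV 2) oneN)) = true := by
  decide +kernel

theorem zpowers_index_not_dvd {p : ℕ} (hp : p.Prime) {a : ℕ} (hs : SoundIn G a) (h1 : powN a p = oneN)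
    (h2 : a ≠ oneN) (hn : ¬ p * p ∣ 175560) :
    ∃ P : Subgroup ↥G, ¬ p ∣ P.index ∧ LocalTriv p P := by
  obtain ⟨g, hg, hga⟩ := hs
  have ho := orderOf_of_cert hp hga h1 h2
  have ho' : orderOf (⟨g, hg⟩ : ↥G) = p := by rw [← ho]; exact (Subgroup.orderOf_mk g hg)
  refine ⟨zpowers ⟨g, hg⟩, ?_, localTriv_zpowers _ _⟩
  apply not_dvd_index' card_G _ (q := p) _ hn
  rw [Nat.card_zpowers, ho']

theorem closure_pair_inv {Γ' : Type*} [Group Γ'] (a x : Γ') :
    closure ({a, x⁻¹} : Set Γ') = closure {a, x} := by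
  apply le_antisymm
  · rw [closure_le]
    intro g hg
    rcases hg with rfl | rfl
    · exact subset_closure (by simp)
    · exact inv_mem (subset_closure (by simp))
  · rw [closure_le]
    intro g hg
    rcases hg with rfl | rfl
    · exact subset_closure (by simp)
    · have : g⁻¹ ∈ closure ({a, g⁻¹} : Set Γ') := subset_closure (by simp)
      simpa using inv_mem this

theorem schur_J1 : Cfsg.HasCyclicSchurMultiplier ↥G 1 := by
  have hc := cert_orders
  simp only [Bool.and_eq_true, Bool.not_eq_true'] at hc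
  obtain ⟨⟨⟨⟨h19, n19⟩, h3⟩, n3⟩, h7⟩ := hc
  have hc2 := cert_orders2
  simp only [Bool.and_eq_true, Bool.not_eq_true'] at hc2
  obtain ⟨⟨⟨h11, n11⟩, h5⟩, n5⟩ := hc2
  have hcf := cert_frob
  simp only [Bool.and_eq_true] at hcf
  obtain ⟨⟨f1, f2⟩, f3⟩ := hcf
  haveI : Finite ↥G := Nat.finite_of_card_ne_zero (by rw [card_G]; norm_num)
  apply trivial_of_local
  intro p hp
  by_cases h2 : p = 2
  · subst h2
    refine ⟨closure {⟨aG, aG_mem⟩, (⟨jankoX, X_mem⟩ : ↥G)⁻¹}, ?_, ?_⟩
    · rw [closure_pair_inv]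
      apply not_dvd_index' card_G _ (q := 56) _ (by norm_num)
      rw [← Subgroup.card_subtype, MonoidHom.map_closure, Set.image_pair]
      show 56 ∣ Nat.card ↥K56
      rw [K56_card]
    · have eXi' : HasEnc ((jankoX)⁻¹) eXi := hasEnc_Xi
      have b1 : HasEnc (jankoX⁻¹ * aG * jankoX) eB1 := (eXi'.mul hasEnc_aG).mul hasEnc_X
      have b2 : HasEnc (jankoX⁻¹ * (jankoX⁻¹ * aG * jankoX) * jankoX) eB2 :=
        (eXi'.mul b1).mul hasEnc_X
      have b3 : HasEnc (jankoX⁻¹ * (jankoX⁻¹ * (jankoX⁻¹ * aG * jankoX) * jankoX) * jankoX) eB3 :=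
        (eXi'.mul b2).mul hasEnc_X
      apply localTriv_frob7 2 (by norm_num)
      · rw [inv_pow, inv_eq_one]
        apply Subtype.ext
        have : jankoX ^ 7 = 1 := (hasEnc_X.pow 7).inj (by rw [Nat.eq_of_beq_eq_true h7]; exact hasEnc_one)
        simpa using this
      · apply Subtype.ext
        simp only [Subgroup.coe_mul, Subgroup.coe_inv, inv_inv]
        have e1 := hasEnc_aG.mul b1
        have e2 := b1.mul hasEnc_aG
        rw [Nat.eq_of_beq_eq_true f1] at e1
        exact e1.inj e2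
      · apply Subtype.ext
        simp only [Subgroup.coe_mul, Subgroup.coe_inv, inv_inv]
        have e1 := hasEnc_aG.mul b2
        have e2 := b2.mul hasEnc_aG
        rw [Nat.eq_of_beq_eq_true f2] at e1
        exact e1.inj e2
      · apply Subtype.ext
        simp only [Subgroup.coe_mul, Subgroup.coe_inv, inv_inv]
        have e2 := hasEnc_aG.mul b1
        rw [Nat.eq_of_beq_eq_true f3] at b3
        exact b3.inj e2
  by_cases h3' : p = 3
  · subst h3'
    exact zpowers_index_not_dvd hp sound_G3 (Nat.eq_of_beq_eq_true h3)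
      (by intro h; rw [h] at n3; simp at n3) (by norm_num)
  by_cases h5' : p = 5
  · subst h5'
    have s5 : SoundIn G (powN eV 2) := by
      obtain ⟨g, hg, hge⟩ := sound_V
      exact ⟨g ^ 2, G.pow_mem hg 2, hge.pow 2⟩
    exact zpowers_index_not_dvd hp s5 (Nat.eq_of_beq_eq_true h5)
      (by intro h; rw [h] at n5; simp at n5) (by norm_num)
  by_cases h7' : p = 7
  · subst h7'
    have n7 : eX ≠ oneN := by decide +kernel
    exact zpowers_index_not_dvd hp ⟨jankoX, X_mem, hasEnc_X⟩ (Nat.eq_of_beq_eq_true h7) n7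
      (by norm_num)
  by_cases h11' : p = 11
  · subst h11'
    exact zpowers_index_not_dvd hp sound_U (Nat.eq_of_beq_eq_true h11)
      (by intro h; rw [h] at n11; simp at n11) (by norm_num)
  by_cases h19' : p = 19
  · subst h19'
    exact zpowers_index_not_dvd hp sound_G19 (Nat.eq_of_beq_eq_true h19)
      (by intro h; rw [h] at n19; simp at n19) (by norm_num)
  · refine ⟨zpowers 1, ?_, localTriv_zpowers _ _⟩
    apply not_dvd_index' card_G _ (q := 1) (one_dvd _)
    rw [mul_one]
    intro h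
    rcases prime_dvd_175560 hp h with h | h | h | h | h | h
    · exact h2 h
    · exact h3' h
    · exact h5' h
    · exact h7' h
    · exact h11' h
    · exact h19' h

end Cfsg.Agent.Lib.Helper3.J1
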