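import Mathlib
import Cfsg.Prelude.Def_Sporadic
import Cfsg.Agent.Lib.Helper3.J1.Simple

set_option autoImplicit false

/-! The group `J1` is simple of order `175560`. -/

namespace Cfsg.Agent.Lib.Helper3.J1

open Cfsg Cfsg.Spor

/-- the representative used for the core -/
def rC : ℕ := RL.getD coreI 0

theorem cert_core : (Nat.blt coreI RL.length &&
    HL.all fun h => Nat.beq h oneN || !(memN HL (mulN (mulN (transposeN rC) h) rC))) = true := by
  decide +kernel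

/-- the core of the point stabilizer is trivial -/
theorem core_trivial {N : Subgroup Γ} (hNH : N ≤ H) (hnorm : ∀ g ∈ G, ∀ n ∈ N, g⁻¹ * n * g ∈ N) :
    N = ⊥ := by
  have hc := cert_core
  rw [Bool.and_eq_true, List.all_eq_true] at hc
  have hi : coreI < RL.length := by simpa [Nat.blt_eq] using hc.1
  have hr : rC ∈ RL := getD_mem hi
  obtain ⟨rg, hrgG, hrg⟩ := TL_sound rC (RL_sub rC hr)
  rw [Subgroup.eq_bot_iff_forall]
  intro n hn
  obtain ⟨e, he, hne⟩ := H_facts.2.1 n (hNH hn)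
  have h1 : rg⁻¹ * n * rg ∈ H := hNH (hnorm rg hrgG n hn)
  obtain ⟨e', he', hne'⟩ := H_facts.2.1 _ h1
  have h2 : HasEnc (rg⁻¹ * n * rg) (mulN (mulN (transposeN rC) e) rC) :=
    (((isOrth_of_mem hrgG).hasEnc_inv hrg).mul hne).mul hrg
  have h3 : mulN (mulN (transposeN rC) e) rC = e' := h2.symm.trans hne'
  have h4 := hc.2 e he
  rw [Bool.or_eq_true, Bool.not_eq_true'] at h4
  rcases h4 with h4 | h4
  · have : e = oneN := Nat.eq_of_beq_eq_true h4
    rw [this] at hne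
    exact hne.inj hasEnc_one
  · exfalso
    have : memN HL (mulN (mulN (transposeN rC) e) rC) = true := by
      rw [h3]
      unfold memN
      rw [List.any_eq_true]
      exact ⟨e', he', Nat.beq_refl _⟩
    rw [this] at h4
    exact absurd h4 (by simp)

/-- the two conjugating elements -/
def c1N : ℕ := mulN (get2 40 LL NC.1.1) (HL.getD NC.1.2 0)
def c2N : ℕ := mulN (get2 40 LL NC.2.1) (HL.getD NC.2.2 0)

theorem cert_NC : (Nat.beq eY (mulN (mulN (mulN c1N eX) (transposeN c1N))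
    (mulN (mulN c2N eX) (transposeN c2N))) && !(Nat.beq (get2 40 LL NC.1.1) 0) &&
    !(Nat.beq (get2 40 LL NC.2.1) 0) && Nat.blt NC.1.2 HL.length && Nat.blt NC.2.2 HL.length) = true := by
  decide +kernel

/-- `jankoY` is a product of two conjugates of `jankoX` -/
theorem Y_eq_conj : ∃ c1 ∈ G, ∃ c2 ∈ G, jankoY = (c1 * jankoX * c1⁻¹) * (c2 * jankoX * c2⁻¹) := by
  have hc := cert_NC
  simp only [Bool.and_eq_true, Bool.not_eq_true', Nat.blt_eq] at hc
  obtain ⟨⟨⟨⟨h1, h2⟩, h3⟩, h4⟩, h5⟩ := hc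
  have s1 : SoundIn G c1N := by
    apply SoundIn.mul
    · apply TL_sound
      apply get2_mem
      intro hcon; rw [hcon] at h2; simp at h2
    · obtain ⟨g, hg, hge⟩ := H_facts.1 _ (getD_mem h4)
      exact ⟨g, H_le hg, hge⟩
  have s2 : SoundIn G c2N := by
    apply SoundIn.mul
    · apply TL_sound
      apply get2_mem
      intro hcon; rw [hcon] at h3; simp at h3
    · obtain ⟨g, hg, hge⟩ := H_facts.1 _ (getD_mem h5)
      exact ⟨g, H_le hg, hge⟩
  obtain ⟨c1, hc1, hc1e⟩ := s1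
  obtain ⟨c2, hc2, hc2e⟩ := s2
  refine ⟨c1, hc1, c2, hc2, ?_⟩
  have e1 : HasEnc ((c1 * jankoX * c1⁻¹) * (c2 * jankoX * c2⁻¹))
      (mulN (mulN (mulN c1N eX) (transposeN c1N)) (mulN (mulN c2N eX) (transposeN c2N))) :=
    ((hc1e.mul hasEnc_X).mul ((isOrth_of_mem hc1).hasEnc_inv hc1e)).mul
      ((hc2e.mul hasEnc_X).mul ((isOrth_of_mem hc2).hasEnc_inv hc2e))
  rw [← Nat.eq_of_beq_eq_true h1] at e1
  exact hasEnc_Y.inj e1

theorem X_pow_seven : jankoX ^ 7 = 1 := by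
  have hc := cert_orders
  simp only [Bool.and_eq_true, Bool.not_eq_true'] at hc
  have h7 : powN eX 7 = oneN := Nat.eq_of_beq_eq_true hc.2
  exact (hasEnc_X.pow 7).inj (by rw [h7]; exact hasEnc_one)

/-- the simplicity of `J1` -/
theorem J1_simple : IsSimpleGroup ↥G := by
  haveI : Nontrivial ↥G := by
    rw [← Finite.one_lt_card_iff_nontrivial, card_G]
    norm_num
  refine ⟨fun N hN => ?_⟩
  -- the image of `N` in the ambient group
  set N' : Subgroup Γ := N.map G.subtype with hN'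
  have hN'G : N' ≤ G := by
    rintro _ ⟨n, -, rfl⟩
    exact n.2
  have hmem : ∀ {g : Γ} (hg : g ∈ G), g ∈ N' ↔ (⟨g, hg⟩ : ↥G) ∈ N := by
    intro g hg
    constructor
    · rintro ⟨n, hn, hng⟩
      have : n = ⟨g, hg⟩ := Subtype.ext hng
      rwa [← this]
    · intro h
      exact ⟨⟨g, hg⟩, h, rfl⟩
  have hnorm : ∀ g ∈ G, ∀ n ∈ N', g⁻¹ * n * g ∈ N' := by
    intro g hg n hn
    have hnG := hN'G hn
    rw [hmem (G.mul_mem (G.mul_mem (G.inv_mem hg) hnG) hg)]
    have h1 : (⟨n, hnG⟩ : ↥G) ∈ N := (hmem hnG).mp hn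
    have h2 := hN.conj_mem _ h1 (⟨g, hg⟩⁻¹ : ↥G)
    have h3 : (⟨g, hg⟩⁻¹ : ↥G) * ⟨n, hnG⟩ * (⟨g, hg⟩⁻¹ : ↥G)⁻¹ =
        ⟨g⁻¹ * n * g, G.mul_mem (G.mul_mem (G.inv_mem hg) hnG) hg⟩ := by
      apply Subtype.ext
      simp
    rwa [h3] at h2
  by_cases hcase : ∃ k ∈ N' ⊔ H, k ∉ H
  · -- `N' ⊔ H = G`
    right
    obtain ⟨k, hk, hkH⟩ := hcase
    have hKG : N' ⊔ H ≤ G := sup_le hN'G H_le
    have hK : N' ⊔ H = G := H_maximal le_sup_right hKG hk hkH
    have htop : N ⊔ H.subgroupOf G = ⊤ := by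
      apply Subgroup.map_injective G.subtype_injective
      rw [Subgroup.map_sup, Subgroup.map_subgroupOf_eq_of_le H_le, ← hN', hK,
        ← MonoidHom.range_eq_map, Subgroup.range_subtype]
    -- `jankoX ∈ N`
    have hx : (⟨jankoX, X_mem⟩ : ↥G) ∈ N := by
      have h1 : (⟨jankoX, X_mem⟩ : ↥G) ∈ N ⊔ H.subgroupOf G := by rw [htop]; trivial
      rw [← SetLike.mem_coe, Subgroup.normal_mul] at h1
      obtain ⟨n, hn, h, hh, hnh⟩ := Set.mem_mul.mp h1
      have hh' : (h : Γ) ∈ H := hh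
      have h110 : h ^ 110 = 1 := by
        apply Subtype.ext
        have := pow_card_eq_one' (G := ↥H) (x := ⟨(h : Γ), hh'⟩)
        rw [H_facts.2.2] at this
        have h2 := congrArg Subtype.val this
        simpa using h2
      have h7 : (⟨jankoX, X_mem⟩ : ↥G) ^ 7 = 1 := by
        apply Subtype.ext
        simpa using X_pow_seven
      rw [← QuotientGroup.eq_one_iff]
      have e1 : ((⟨jankoX, X_mem⟩ : ↥G) : ↥G ⧸ N) = (h : ↥G ⧸ N) := by
        rw [← hnh, QuotientGroup.mk_mul, (QuotientGroup.eq_one_iff n).mpr hn, one_mul]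
      have q7 : ((⟨jankoX, X_mem⟩ : ↥G) : ↥G ⧸ N) ^ 7 = 1 := by
        rw [← QuotientGroup.mk_pow, h7, QuotientGroup.mk_one]
      have q110 : ((⟨jankoX, X_mem⟩ : ↥G) : ↥G ⧸ N) ^ 110 = 1 := by
        rw [e1, ← QuotientGroup.mk_pow, h110, QuotientGroup.mk_one]
      have := pow_gcd_eq_one.mpr ⟨q7, q110⟩
      have hg : Nat.gcd 7 110 = 1 := by norm_num
      rwa [hg, pow_one] at this
    obtain ⟨c1, hc1, c2, hc2, hY⟩ := Y_eq_conj
    have hy : (⟨jankoY, Y_mem⟩ : ↥G) ∈ N := by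
      have e : (⟨jankoY, Y_mem⟩ : ↥G) =
          ((⟨c1, hc1⟩ : ↥G) * ⟨jankoX, X_mem⟩ * (⟨c1, hc1⟩ : ↥G)⁻¹) *
          ((⟨c2, hc2⟩ : ↥G) * ⟨jankoX, X_mem⟩ * (⟨c2, hc2⟩ : ↥G)⁻¹) := by
        apply Subtype.ext
        simpa using hY
      rw [e]
      exact N.mul_mem (hN.conj_mem _ hx _) (hN.conj_mem _ hx _)
    have hGle : G ≤ N' := by
      show Subgroup.closure ({jankoX, jankoY} : Set Γ) ≤ N'
      rw [Subgroup.closure_le]
      intro z hz
      rcases hz with rfl | rfl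
      · exact (hmem X_mem).mpr hx
      · exact (hmem Y_mem).mpr hy
    rw [eq_top_iff]
    intro g _
    exact (hmem g.2).mp (hGle g.2)
  · left
    push Not at hcase
    have hNH : N' ≤ H := fun n hn => hcase n (Subgroup.mem_sup_left hn)
    have := core_trivial hNH hnorm
    rw [Subgroup.eq_bot_iff_forall]
    intro n hn
    have h1 : (n : Γ) ∈ N' := ⟨n, hn, rfl⟩
    rw [this, Subgroup.mem_bot] at h1
    exact Subtype.ext h1

end Cfsg.Agent.Lib.Helper3.J1
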